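import Groth.Agent.Lib.QuadGrp99.Cliff.Contract
import Mathlib.LinearAlgebra.TensorProduct.Basis
import Mathlib.LinearAlgebra.QuadraticForm.TensorProduct
import Mathlib.RingTheory.TensorProduct.Basic
import Mathlib.RingTheory.OrzechProperty
import Mathlib.LinearAlgebra.Dual.Basis

/-!
# Base change of Clifford algebras
-/

open CliffordAlgebra TensorProduct

universe u v

namespace Groth.Agent.Lib.QuadGrp99.Cliff

variable {R : Type u} [CommRing R] {M : Type v} [AddCommGroup M] [Module R M] [Module.Free R M]
  (A : Type u) [CommRing A] [Algebra R A] (Q : QuadraticForm R M)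

/-- The base change of a form. -/
noncomputable abbrev QA : QuadraticForm A (A ⊗[R] M) := QuadGrp.baseChangeForm A Q

theorem QA_one_tmul (m : M) : QA A Q ((1 : A) ⊗ₜ[R] m) = algebraMap R A (Q m) := by
  simp [QA, QuadGrp.baseChangeForm, QuadGrp.baseChange_tmul, Algebra.smul_def]

theorem polar_one_tmul (m m' : M) :
    QuadraticMap.polar (QA A Q) ((1 : A) ⊗ₜ[R] m) ((1 : A) ⊗ₜ[R] m') =
      algebraMap R A (QuadraticMap.polar Q m m') := by
  simp only [QuadraticMap.polar, ← TensorProduct.tmul_add, QA_one_tmul, map_sub]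

/-- The map to the Clifford algebra of the base change. -/
noncomputable def toBC : CliffordAlgebra Q →ₐ[R] CliffordAlgebra (QA A Q) :=
  CliffordAlgebra.lift Q ⟨((ι (QA A Q)).restrictScalars R).comp (TensorProduct.mk R A M 1), fun m => by
    simp only [LinearMap.comp_apply, LinearMap.coe_restrictScalars, TensorProduct.mk_apply, ι_sq_scalar,
      QA_one_tmul]
    rw [← IsScalarTower.algebraMap_apply]⟩

@[simp]
theorem toBC_ι (m : M) : toBC A Q (ι Q m) = ι (QA A Q) ((1 : A) ⊗ₜ[R] m) := by
  rw [toBC, lift_ι_apply]; rfl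

/-- The map to the tensor product. -/
noncomputable def toTensor : CliffordAlgebra (QA A Q) →ₐ[A] A ⊗[R] CliffordAlgebra Q :=
  CliffordAlgebra.lift (QA A Q) ⟨(ι Q).baseChange A, fun z => by
    have key : LinearMap.BilinMap.toQuadraticMap
        ((LinearMap.mul A (A ⊗[R] CliffordAlgebra Q)).compl₁₂ ((ι Q).baseChange A) ((ι Q).baseChange A)) =
        (Algebra.linearMap A (A ⊗[R] CliffordAlgebra Q)).compQuadraticMap (QA A Q) := by
      ext m
      simp [QA_one_tmul, Algebra.TensorProduct.algebraMap_apply]
      rw [Algebra.algebraMap_eq_smul_one, Algebra.algebraMap_eq_smul_one, TensorProduct.smul_tmul]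
    simpa using congrArg (fun q => q z) key⟩

theorem toTensor_toBC (x : CliffordAlgebra Q) : toTensor A Q (toBC A Q x) = (1 : A) ⊗ₜ[R] x := by
  have : ((toTensor A Q).restrictScalars R).comp (toBC A Q) =
      Algebra.TensorProduct.includeRight := by
    apply CliffordAlgebra.hom_ext
    ext m
    simp [toTensor]
    erw [lift_ι_apply]
    rw [LinearMap.baseChange_tmul]
  exact congrArg (fun f => f x) this

theorem ι_tmul (a : A) (m : M) : ι (QA A Q) (a ⊗ₜ[R] m) = a • toBC A Q (ι Q m) := by
  rw [toBC_ι, ← map_smul, TensorProduct.smul_tmul', smul_eq_mul, mul_one]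

theorem mem_span_range (y : CliffordAlgebra (QA A Q)) :
    y ∈ Submodule.span A (Set.range (toBC A Q)) := by
  induction y using CliffordAlgebra.left_induction with
  | algebraMap r =>
    rw [Algebra.algebraMap_eq_smul_one]
    exact Submodule.smul_mem _ _ (Submodule.subset_span ⟨1, map_one _⟩)
  | add x y hx hy => exact add_mem hx hy
  | ι_mul z w hz =>
    induction hz using Submodule.span_induction with
    | zero => simp
    | add a b _ _ ha hb => rw [mul_add]; exact add_mem ha hb
    | smul c a _ ha => rw [mul_smul_comm]; exact Submodule.smul_mem _ c ha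
    | mem a ha =>
      obtain ⟨x, rfl⟩ := ha
      induction w using TensorProduct.induction_on with
      | zero => simp
      | add p q hp hq => rw [map_add, add_mul]; exact add_mem hp hq
      | tmul a m =>
        rw [ι_tmul, smul_mul_assoc, ← map_mul]
        exact Submodule.smul_mem _ _ (Submodule.subset_span ⟨_, rfl⟩)

theorem toBC_mem_evenOdd (i : ZMod 2) (x : CliffordAlgebra Q) (hx : x ∈ evenOdd Q i) :
    toBC A Q x ∈ evenOdd (QA A Q) i := by
  induction x, hx using CliffordAlgebra.evenOdd_induction with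
  | range_ι_pow v h =>
    rcases (show ∀ j : ZMod 2, j = 0 ∨ j = 1 by decide) i with rfl | rfl
    · obtain ⟨r, rfl⟩ := Submodule.mem_one.mp h
      rw [AlgHom.commutes, IsScalarTower.algebraMap_apply R A]
      exact SetLike.algebraMap_mem_graded _ _
    · rw [ZMod.val_one, pow_one] at h
      obtain ⟨m, rfl⟩ := h
      rw [toBC_ι]; exact ι_mem_evenOdd_one _ _
  | add a b _ _ ha hb => rw [map_add]; exact add_mem ha hb
  | ι_mul_ι_mul m1 m2 y _ hy =>
    rw [map_mul, map_mul, toBC_ι, toBC_ι, ← zero_add i]
    exact SetLike.mul_mem_graded (ι_mul_ι_mem_evenOdd_zero _ _ _) hy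

theorem toBC_eq_zero_iff [Module.Finite R M] (x : CliffordAlgebra Q) :
    toBC A Q x = 0 ↔ ∀ i, algebraMap R A ((Module.Free.chooseBasis R (CliffordAlgebra Q)).repr x i) = 0 := by
  constructor
  · intro h i
    have h1 := toTensor_toBC A Q x
    rw [h, map_zero] at h1
    have := congrArg (fun t => ((Module.Free.chooseBasis R (CliffordAlgebra Q)).baseChange A).repr t i) h1.symm
    simpa [Module.Basis.baseChange_repr_tmul, Algebra.algebraMap_eq_smul_one] using this
  · intro h
    rw [← (Module.Free.chooseBasis R (CliffordAlgebra Q)).sum_repr x, map_sum]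
    refine Finset.sum_eq_zero fun i _ => ?_
    rw [map_smul, Algebra.smul_def, IsScalarTower.algebraMap_apply R A, h, map_zero, zero_mul]

theorem toBC_injective [Module.Finite R M] (hA : Function.Injective (algebraMap R A)) :
    Function.Injective (toBC A Q) := by
  rw [injective_iff_map_eq_zero]
  intro x hx
  rw [toBC_eq_zero_iff] at hx
  exact (Module.Free.chooseBasis R (CliffordAlgebra Q)).forall_coord_eq_zero_iff.mp
    fun i => hA (by rw [map_zero]; exact hx i)

theorem regular_QA [Module.Finite R M] (hQ : QuadGrp.IsRegular Q) : QuadGrp.IsRegular (QA A Q) := by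
  classical
  let b := finBasis' R M
  let b' := b.baseChange A
  have hsurj : Function.Surjective (QuadraticMap.polarBilin (QA A Q)) := by
    intro f
    choose y hy using fun i => hQ.2 (b.coord i)
    refine ⟨∑ i, f (b' i) • ((1 : A) ⊗ₜ[R] y i), b'.ext fun j => ?_⟩
    simp only [map_sum, map_smul, LinearMap.sum_apply, LinearMap.smul_apply, smul_eq_mul,
      QuadraticMap.polarBilin_apply_apply]
    have : ∀ i, QuadraticMap.polar (QA A Q) ((1 : A) ⊗ₜ[R] y i) (b' j) = if j = i then 1 else 0 := fun i => by
      show QuadraticMap.polar (QA A Q) ((1 : A) ⊗ₜ[R] y i) ((b.baseChange A) j) = _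
      rw [Module.Basis.baseChange_apply, polar_one_tmul, ← QuadraticMap.polarBilin_apply_apply, hy,
        Module.Basis.coord_apply, Module.Basis.repr_self, Finsupp.single_apply]
      split_ifs <;> simp
    simp [this]
  refine ⟨?_, hsurj⟩
  let e : Module.Dual A (A ⊗[R] M) ≃ₗ[A] (A ⊗[R] M) := b'.toDualEquiv.symm
  have := OrzechProperty.injective_of_surjective_endomorphism (R := A)
    (e.toLinearMap.comp (QuadraticMap.polarBilin (QA A Q))) (e.surjective.comp hsurj)
  exact fun x y h => this (by simp [h])

theorem baseChange_mem_O (g : M ≃ₗ[R] M) (hg : g ∈ QuadGrp.O Q) :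
    (g.baseChange R A M M) ∈ QuadGrp.O (QA A Q) := by
  have key : (QA A Q).comp (g.baseChange R A M M).toLinearMap = QA A Q := by
    ext m
    simp [QA_one_tmul, show Q (g m) = Q m from hg m]
  exact fun z => congrArg (fun q => q z) key

theorem toBC_map (g : M ≃ₗ[R] M) (hg : g ∈ QuadGrp.O Q) (x : CliffordAlgebra Q) :
    toBC A Q (CliffordAlgebra.map (QuadGrp.isometryOfMem Q g hg) x) =
      CliffordAlgebra.map (QuadGrp.isometryOfMem (QA A Q) _ (baseChange_mem_O A Q g hg)) (toBC A Q x) := by
  have : (toBC A Q).comp (CliffordAlgebra.map (QuadGrp.isometryOfMem Q g hg)) =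
      ((CliffordAlgebra.map (QuadGrp.isometryOfMem (QA A Q) _ (baseChange_mem_O A Q g hg))).restrictScalars R).comp
        (toBC A Q) := by
    apply CliffordAlgebra.hom_ext
    ext m
    simp [QuadGrp.isometryOfMem_apply]
  exact congrArg (fun f => f x) this

theorem toBC_commute (x : CliffordAlgebra Q) (hx : ∀ v, ι Q v * x = x * ι Q v) (w : A ⊗[R] M) :
    ι (QA A Q) w * toBC A Q x = toBC A Q x * ι (QA A Q) w := by
  induction w using TensorProduct.induction_on with
  | zero => simp
  | add p q hp hq => rw [map_add, add_mul, mul_add, hp, hq]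
  | tmul a m =>
    rw [ι_tmul, smul_mul_assoc, mul_smul_comm, ← map_mul, ← map_mul, hx]

theorem toBC_commute_even (x : CliffordAlgebra Q) (hx : ∀ y ∈ evenOdd Q 0, x * y = y * x)
    (y : CliffordAlgebra (QA A Q)) (hy : y ∈ evenOdd (QA A Q) 0) : toBC A Q x * y = y * toBC A Q x := by
  have h2 : ∀ p q : A ⊗[R] M,
      toBC A Q x * (ι (QA A Q) p * ι _ q) = ι (QA A Q) p * ι _ q * toBC A Q x := by
    intro p q
    induction p using TensorProduct.induction_on with
    | zero => simp
    | add p p' hp hp' => simp only [map_add, add_mul, mul_add, hp, hp']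
    | tmul a m =>
      induction q using TensorProduct.induction_on with
      | zero => simp
      | add q q' hq hq' => simp only [map_add, add_mul, mul_add, hq, hq']
      | tmul c m' =>
        rw [ι_tmul, ι_tmul, smul_mul_smul_comm, mul_smul_comm, smul_mul_assoc,
          ← map_mul (toBC A Q), ← map_mul (toBC A Q), ← map_mul (toBC A Q), hx _ (ι_mul_ι_mem_evenOdd_zero _ _ _)]
  induction y, hy using CliffordAlgebra.even_induction with
  | algebraMap r => exact (Algebra.commutes r _).symm
  | add a b _ _ ha hb => rw [mul_add, add_mul, ha, hb]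
  | ι_mul_ι_mul p q z _ hz =>
    rw [← mul_assoc, h2, mul_assoc _ (toBC A Q x) z, hz, ← mul_assoc]

end Groth.Agent.Lib.QuadGrp99.Cliff
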