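import Groth.Agent.Lib.Brauer.AzumayaBasics
import Mathlib.RingTheory.Etale.Descent
import Mathlib.RingTheory.TotallySplit
import Mathlib.RingTheory.Spectrum.Prime.FreeLocus
import Mathlib.RingTheory.Flat.FaithfullyFlat.Algebra
import Mathlib.RingTheory.Flat.EquationalCriterion

/-!
# The centre of an algebra which is locally a product of two matrix algebras
-/

noncomputable section

open scoped TensorProduct

set_option maxSynthPendingDepth 3
set_option synthInstance.maxHeartbeats 100000

universe u w

namespace Groth.Agent.Lib.QuadGrp99.Cliff.Center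

theorem center_matrix {S : Type u} [CommRing S] {n : ℕ} (M : Matrix (Fin n) (Fin n) S) (h : ∀ N, Commute N M) :
    ∃ s : S, M = algebraMap S (Matrix (Fin n) (Fin n) S) s := by
  obtain ⟨s, hs⟩ := Matrix.mem_range_scalar_of_commute_single (M := M) fun i j _ => h _
  exact ⟨s, hs.symm⟩

variable {A : Type u} [CommRing A] {E : Type w} [Ring E] [Algebra A E]
  (S : Type u) [CommRing S] [Algebra A S] [Module.FaithfullyFlat A S] {n : ℕ} [NeZero n]
  (e : S ⊗[A] E ≃ₐ[S] Matrix (Fin n) (Fin n) S × Matrix (Fin n) (Fin n) S)

variable (A E) in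
/-- The centre after base change. -/
def inc : S ⊗[A] ↥(Subalgebra.center A E) →ₐ[S] S ⊗[A] E :=
  Algebra.TensorProduct.map (AlgHom.id S S) (Subalgebra.center A E).val

theorem inc_eq_lTensor (x : S ⊗[A] ↥(Subalgebra.center A E)) :
    inc A E S x = (Subalgebra.center A E).val.toLinearMap.lTensor S x := by
  induction x using TensorProduct.induction_on with
  | zero => simp
  | tmul s z => rfl
  | add a b ha hb => simp only [map_add, ha, hb]

theorem inc_injective : Function.Injective (inc A E S) := fun x y h => by
  rw [inc_eq_lTensor, inc_eq_lTensor] at h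
  exact Module.Flat.lTensor_preserves_injective_linearMap (M := S) (Subalgebra.center A E).val.toLinearMap
    Subtype.val_injective h

theorem range_inc [Module.Finite A E] : (inc A E S).range = Subalgebra.center S (S ⊗[A] E) := by
  classical
  refine le_antisymm ?_ fun x hx => ?_
  · rintro _ ⟨x, rfl⟩
    rw [Subalgebra.mem_center_iff]
    intro y
    show y * inc A E S x = inc A E S x * y
    induction x using TensorProduct.induction_on with
    | zero => simp
    | add a b ha hb => rw [map_add, mul_add, add_mul, ha, hb]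
    | tmul s z =>
      induction y using TensorProduct.induction_on with
      | zero => simp
      | add a b ha hb => rw [add_mul, mul_add, ha, hb]
      | tmul t a =>
        show (t ⊗ₜ[A] a) * (s ⊗ₜ[A] (z : E)) = (s ⊗ₜ[A] (z : E)) * (t ⊗ₜ[A] a)
        rw [Algebra.TensorProduct.tmul_mul_tmul, Algebra.TensorProduct.tmul_mul_tmul, mul_comm t s,
          Subalgebra.mem_center_iff.1 z.2 a]
  · obtain ⟨N, g, hg⟩ := Module.Finite.exists_fin (R := A) (M := E)
    let φ : E →ₗ[A] (Fin N → E) := LinearMap.pi fun i => LinearMap.mulRight A (g i) - LinearMap.mulLeft A (g i)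
    have hex : Function.Exact (Subalgebra.center A E).val.toLinearMap φ := by
      intro a
      constructor
      · intro h
        refine ⟨⟨a, Subalgebra.mem_center_iff.2 fun b => ?_⟩, rfl⟩
        obtain ⟨c, rfl⟩ := (Submodule.mem_span_range_iff_exists_fun A).1 (hg ▸ Submodule.mem_top : b ∈ _)
        rw [Finset.sum_mul, Finset.mul_sum]
        refine Finset.sum_congr rfl fun i _ => ?_
        have hi : a * g i - g i * a = 0 := congrFun h i
        rw [smul_mul_assoc, mul_smul_comm, sub_eq_zero.1 hi]
      · rintro ⟨z, rfl⟩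
        funext i
        simp [φ, Subalgebra.mem_center_iff.1 z.2 (g i)]
    have hx0 : φ.lTensor S x = 0 := by
      refine (TensorProduct.piRight A A S fun _ : Fin N => E).injective ?_
      funext i
      have h : (TensorProduct.piRight A A S fun _ : Fin N => E) (φ.lTensor S x) i =
          x * ((1 : S) ⊗ₜ[A] g i) - ((1 : S) ⊗ₜ[A] g i) * x := by
        clear hx
        induction x using TensorProduct.induction_on with
        | zero => simp
        | tmul s a => simp [φ, TensorProduct.tmul_sub]
        | add a b ha hb => simp only [map_add, Pi.add_apply, ha, hb, add_mul, mul_add]; abel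
      rw [h, map_zero, Pi.zero_apply, Subalgebra.mem_center_iff.1 hx, sub_self]
    obtain ⟨z, hz⟩ := (Module.Flat.lTensor_exact S hex x).mp hx0
    exact ⟨z, (inc_eq_lTensor S z).trans hz⟩

/-- The two scalar embeddings. -/
def scal : S × S →ₐ[S] S ⊗[A] E :=
  e.symm.toAlgHom.comp (AlgHom.prodMap (Algebra.ofId S (Matrix (Fin n) (Fin n) S)) (Algebra.ofId S (Matrix (Fin n) (Fin n) S)))

theorem scal_apply (p : S × S) : scal S e p =
    e.symm (algebraMap S (Matrix (Fin n) (Fin n) S) p.1, algebraMap S (Matrix (Fin n) (Fin n) S) p.2) := rfl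

theorem scal_injective : Function.Injective (scal S e) := fun p q h => by
  rw [scal_apply, scal_apply] at h
  obtain ⟨h1, h2⟩ := Prod.ext_iff.1 (e.symm.injective h)
  have hinj : Function.Injective (algebraMap S (Matrix (Fin n) (Fin n) S)) := fun s t hst => by
    simpa [Matrix.algebraMap_matrix_apply] using congrArg (fun M : Matrix (Fin n) (Fin n) S => M 0 0) hst
  exact Prod.ext (hinj h1) (hinj h2)

theorem range_scal : (scal S e).range = Subalgebra.center S (S ⊗[A] E) := by
  refine le_antisymm ?_ fun x hx => ?_
  · rintro _ ⟨p, rfl⟩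
    rw [Subalgebra.mem_center_iff]
    intro y
    apply e.injective
    show e (y * scal S e p) = e (scal S e p * y)
    rw [map_mul, map_mul, scal_apply, AlgEquiv.apply_symm_apply]
    exact Prod.ext (Algebra.commutes _ _).symm (Algebra.commutes _ _).symm
  · have h := fun y => congrArg e (Subalgebra.mem_center_iff.1 hx (e.symm y))
    simp only [map_mul, AlgEquiv.apply_symm_apply] at h
    obtain ⟨s, hs⟩ := center_matrix (e x).1 fun N => congrArg Prod.fst (h (N, 0))
    obtain ⟨t, ht⟩ := center_matrix (e x).2 fun N => congrArg Prod.snd (h (0, N))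
    exact ⟨(s, t), e.injective (by
      show e (scal S e (s, t)) = e x
      rw [scal_apply, AlgEquiv.apply_symm_apply]
      exact Prod.ext hs.symm ht.symm)⟩

include e in
theorem module_finite : Module.Finite A E := by
  haveI : Module.Finite S (S ⊗[A] E) := Module.Finite.equiv e.toLinearEquiv.symm
  exact Module.Finite.of_finite_tensorProduct_of_faithfullyFlat S

/-- The centre after base change is split. -/
theorem exists_equiv : ∃ ε : S ⊗[A] ↥(Subalgebra.center A E) ≃ₐ[S] S × S, ∀ x, scal S e (ε x) = inc A E S x := by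
  haveI := module_finite S e
  let ι : S ⊗[A] ↥(Subalgebra.center A E) →ₐ[S] S ⊗[A] E := inc A E S
  let ε := (AlgEquiv.ofInjective ι (inc_injective S)).trans
    ((Subalgebra.equivOfEq _ _ ((range_inc S).trans (range_scal S e).symm)).trans
      (AlgEquiv.ofInjective (scal S e) (scal_injective S e)).symm)
  refine ⟨ε, fun x => ?_⟩
  exact congrArg Subtype.val ((AlgEquiv.ofInjective (scal S e) (scal_injective S e)).apply_symm_apply _)

theorem isFiniteSplit_prod : Algebra.IsFiniteSplit S (S × S) :=
  Algebra.IsFiniteSplit.of_algEquiv (S := Fin 2 → S)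
    (AlgEquiv.ofLinearEquiv (LinearEquiv.finTwoArrow S S) rfl fun _ _ => rfl)

include e in
theorem center_props :
    Algebra.Etale A ↥(Subalgebra.center A E) ∧ Module.Finite A ↥(Subalgebra.center A E) ∧
      Module.Projective A ↥(Subalgebra.center A E) ∧
      ∀ p : PrimeSpectrum A, Module.rankAtStalk ↥(Subalgebra.center A E) p = 2 := by
  obtain ⟨ε, -⟩ := exists_equiv S e
  haveI := isFiniteSplit_prod (S := S)
  haveI : Algebra.IsFiniteSplit S (S ⊗[A] ↥(Subalgebra.center A E)) :=
    Algebra.IsFiniteSplit.of_algEquiv ε.symm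
  haveI het : Algebra.Etale A ↥(Subalgebra.center A E) :=
    Algebra.Etale.of_etale_tensorProduct_of_faithfullyFlat S
  haveI hfin : Module.Finite A ↥(Subalgebra.center A E) :=
    Module.Finite.of_finite_tensorProduct_of_faithfullyFlat S
  haveI : Module.FinitePresentation A ↥(Subalgebra.center A E) :=
    Brauer.AzumayaBasics.finitePresentation_of_projective_baseChange A (S := S) _
  haveI hproj : Module.Projective A ↥(Subalgebra.center A E) := Module.Flat.projective_of_finitePresentation
  refine ⟨het, hfin, hproj, fun p => ?_⟩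
  obtain ⟨q, rfl⟩ := PrimeSpectrum.comap_surjective_of_faithfullyFlat (A := A) (B := S) p
  haveI : Nontrivial S := ⟨⟨0, 1, fun h => q.2.ne_top ((Ideal.eq_top_iff_one _).2 (h ▸ zero_mem _))⟩⟩
  rw [← Module.rankAtStalk_baseChange, Module.rankAtStalk_eq_of_equiv ε.toLinearEquiv,
    Module.rankAtStalk_eq_finrank_of_free]
  simp [Module.finrank_prod]

theorem isAzumaya_of_split (Z : Type w) [CommRing Z] [Algebra A Z] [Algebra Z E]
    (hAZ : ∀ a, algebraMap A E a = algebraMap Z E (algebraMap A Z a))
    (ε : S ⊗[A] Z ≃ₐ[S] S × S)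
    (hε : ∀ z : Z, scal S e (ε ((1 : S) ⊗ₜ[A] z)) = (1 : S) ⊗ₜ[A] algebraMap Z E z) : IsAzumaya Z E := by
  haveI : IsScalarTower A Z E := IsScalarTower.of_algebraMap_eq hAZ
  let γ : Z →+* S × S :=
    (ε : S ⊗[A] Z →+* S × S).comp
      (Algebra.TensorProduct.includeRight : Z →ₐ[A] S ⊗[A] Z).toRingHom
  letI : Algebra Z (S × S) := γ.toAlgebra
  have hγA : ∀ a : A, γ (algebraMap A _ a) = algebraMap A (S × S) a := fun a => by
    show ε (Algebra.TensorProduct.includeRight (algebraMap A _ a)) = _
    rw [AlgHom.commutes]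
    exact (ε.restrictScalars A).commutes a
  haveI : IsScalarTower A Z (S × S) := IsScalarTower.of_algebraMap_eq fun a => (hγA a).symm
  haveI : Module.FaithfullyFlat Z (S × S) := by
    let φ : Z ⊗[A] S →ₐ[Z] S × S :=
      Algebra.TensorProduct.lift (Algebra.ofId _ _) ((Algebra.ofId S (S × S)).restrictScalars A) fun _ _ => Commute.all _ _
    have hφ : ∀ x, φ x = ε (Algebra.TensorProduct.comm A _ S x) := fun x => by
      induction x using TensorProduct.induction_on with
      | zero => simp
      | tmul z s =>
        show γ z * algebraMap S (S × S) s = ε (s ⊗ₜ[A] z)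
        rw [show s ⊗ₜ[A] z = algebraMap S (S ⊗[A] Z) s * ((1 : S) ⊗ₜ[A] z) by
          simp [Algebra.TensorProduct.algebraMap_apply], map_mul, AlgEquiv.commutes]
        exact mul_comm _ _
      | add a b ha hb => simp only [map_add, ha, hb]
    have hb : Function.Bijective φ := by
      rw [show (φ : _ → _) = fun x => ε (Algebra.TensorProduct.comm A _ S x) from funext hφ]
      exact ε.bijective.comp (Algebra.TensorProduct.comm A _ S).bijective
    haveI : Module.FaithfullyFlat Z (Z ⊗[A] S) := inferInstance
    exact Module.FaithfullyFlat.of_linearEquiv _ _ (AlgEquiv.ofBijective φ hb).toLinearEquiv.symm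
  let pm : (Matrix (Fin n) (Fin n) S × Matrix (Fin n) (Fin n) S) →+* Matrix (Fin n) (Fin n) (S × S) :=
    { toFun := fun p => Matrix.of fun i j => (p.1 i j, p.2 i j)
      map_one' := by ext i j <;> simp [Matrix.one_apply] <;> split_ifs <;> rfl
      map_zero' := by ext i j <;> simp
      map_add' := fun p q => by ext i j <;> simp
      map_mul' := fun p q => by ext i j <;> simp [Matrix.mul_apply, Prod.fst_sum, Prod.snd_sum] }
  have hpm : Function.Bijective pm := by
    refine ⟨fun p q h => ?_, fun M => ⟨(M.map Prod.fst, M.map Prod.snd), by ext i j <;> rfl⟩⟩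
    refine Prod.ext ?_ ?_ <;> ext i j
    · exact congrArg Prod.fst (congrFun (congrFun h i) j)
    · exact congrArg Prod.snd (congrFun (congrFun h i) j)
  have hpms : ∀ p : S × S, pm (e (scal S e p)) = algebraMap (S × S) (Matrix (Fin n) (Fin n) (S × S)) p := fun p => by
    rw [scal_apply, AlgEquiv.apply_symm_apply]
    ext i j <;> simp [pm, Matrix.algebraMap_matrix_apply] <;> split_ifs <;> rfl
  let α : E →ₐ[Z] Matrix (Fin n) (Fin n) (S × S) :=
    { __ := (pm.comp (e : S ⊗[A] E →+* _)).comp
        (Algebra.TensorProduct.includeRight : E →ₐ[A] S ⊗[A] E).toRingHom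
      commutes' := fun z => by
        show pm (e ((1 : S) ⊗ₜ[A] algebraMap Z E z)) = algebraMap (S × S) _ (γ z)
        rw [← hpms]
        exact congrArg (fun w => pm (e w)) (hε z).symm }
  let L : (S × S) ⊗[Z] E →ₐ[S × S] Matrix (Fin n) (Fin n) (S × S) :=
    Algebra.TensorProduct.lift (Algebra.ofId _ _) α fun a b => Algebra.commutes a _
  let χ : S ⊗[A] E →+ (S × S) ⊗[Z] E :=
    TensorProduct.liftAddHom
      { toFun := fun s =>
          { toFun := fun a => algebraMap S (S × S) s ⊗ₜ[Z] a
            map_zero' := TensorProduct.tmul_zero _ _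
            map_add' := fun a b => TensorProduct.tmul_add _ _ _ }
        map_zero' := AddMonoidHom.ext fun a => by
          show algebraMap S (S × S) 0 ⊗ₜ[Z] a = 0
          rw [map_zero, TensorProduct.zero_tmul]
        map_add' := fun s t => AddMonoidHom.ext fun a => by
          show algebraMap S (S × S) (s + t) ⊗ₜ[Z] a = _
          rw [map_add, TensorProduct.add_tmul]
          rfl }
      fun r s a => by
        show algebraMap S (S × S) (r • s) ⊗ₜ[Z] a = algebraMap S (S × S) s ⊗ₜ (r • a)
        rw [← algebraMap_smul Z r a, ← TensorProduct.smul_tmul, algebraMap_smul]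
        congr 1
  have hLχ : ∀ x, L (χ x) = pm (e x) := fun x => by
    induction x using TensorProduct.induction_on with
    | zero => simp
    | tmul s a =>
      show L (algebraMap S (S × S) s ⊗ₜ[Z] a) = _
      rw [show s ⊗ₜ[A] a = algebraMap S (S ⊗[A] E) s * ((1 : S) ⊗ₜ[A] a) by
        simp [Algebra.TensorProduct.algebraMap_apply], map_mul, map_mul]
      show algebraMap (S × S) _ (algebraMap S (S × S) s) * pm (e ((1 : S) ⊗ₜ[A] a)) = _
      congr 1
      rw [← hpms, AlgHom.commutes]
    | add a b ha hb => simp only [map_add, ha, hb]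
  have hχ : Function.Surjective χ := fun y => by
    induction y using TensorProduct.induction_on with
    | zero => exact ⟨0, map_zero χ⟩
    | add a b ha hb =>
      obtain ⟨u, rfl⟩ := ha
      obtain ⟨v, rfl⟩ := hb
      exact ⟨u + v, map_add χ u v⟩
    | tmul t a =>
      obtain ⟨x, rfl⟩ := ε.surjective t
      induction x using TensorProduct.induction_on with
      | zero => exact ⟨0, by simp⟩
      | add p q hp hq =>
        obtain ⟨u, hu⟩ := hp
        obtain ⟨v, hv⟩ := hq
        exact ⟨u + v, by rw [map_add, hu, hv, map_add, TensorProduct.add_tmul]⟩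
      | tmul s z =>
        refine ⟨s ⊗ₜ[A] (z • a), ?_⟩
        show algebraMap S (S × S) s ⊗ₜ[Z] (z • a) = _
        rw [← TensorProduct.smul_tmul]
        congr 1
        rw [show s ⊗ₜ[A] z = algebraMap S (S ⊗[A] Z) s * ((1 : S) ⊗ₜ[A] z) by
          simp [Algebra.TensorProduct.algebraMap_apply], map_mul, AlgEquiv.commutes, Algebra.smul_def]
        exact mul_comm _ _
  have hL : Function.Bijective L := by
    refine ⟨fun x y h => ?_, fun M => ?_⟩
    · obtain ⟨x, rfl⟩ := hχ x
      obtain ⟨y, rfl⟩ := hχ y
      rw [hLχ, hLχ] at h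
      rw [e.injective (hpm.1 h)]
    · obtain ⟨p, rfl⟩ := hpm.2 M
      exact ⟨χ (e.symm p), by rw [hLχ, AlgEquiv.apply_symm_apply]⟩
  haveI : IsAzumaya (S × S) (Matrix (Fin n) (Fin n) (S × S)) := IsAzumaya.matrix _ _
  haveI : IsAzumaya (S × S) ((S × S) ⊗[Z] E) :=
    IsAzumaya.of_AlgEquiv _ _ _ (AlgEquiv.ofBijective L hL).symm
  exact Brauer.AzumayaBasics.of_faithfullyFlat _ (S × S) E


include e in
theorem isAzumaya_center :
    letI : Algebra ↥(Subalgebra.center A E) E :=
      (Subalgebra.center A E).val.toRingHom.toAlgebra' (fun c x => (Subalgebra.mem_center_iff.mp c.2 x).symm)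
    IsAzumaya ↥(Subalgebra.center A E) E := by
  letI : Algebra ↥(Subalgebra.center A E) E :=
    (Subalgebra.center A E).val.toRingHom.toAlgebra' (fun c x => (Subalgebra.mem_center_iff.mp c.2 x).symm)
  obtain ⟨ε, hε⟩ := exists_equiv S e
  exact isAzumaya_of_split S e ↥(Subalgebra.center A E) (fun _ => rfl) ε fun z => hε _

end Groth.Agent.Lib.QuadGrp99.Cliff.Center
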