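import Mathlib.LinearAlgebra.CliffordAlgebra.Contraction
import Mathlib.LinearAlgebra.CliffordAlgebra.Grading
import Mathlib.LinearAlgebra.CliffordAlgebra.Conjugation
import Mathlib.LinearAlgebra.ExteriorAlgebra.Basis
import Mathlib.LinearAlgebra.QuadraticForm.Basis
import Mathlib.Tactic.NoncommRing
import Groth.Prelude.Def_QuadGrp

/-!
# Contractions in Clifford algebras of regular forms
-/

open CliffordAlgebra

universe u v

namespace Groth.Agent.Lib.QuadGrp99.Cliff

variable {R : Type u} [CommRing R] {M : Type v} [AddCommGroup M] [Module R M]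

/-- Contraction with the polar form is the supercommutator. -/
theorem D_apply (Q : QuadraticForm R M) (v : M) (x : CliffordAlgebra Q) :
    contractLeft (QuadraticMap.polarBilin Q v) x = ι Q v * x - involute x * ι Q v := by
  induction x using CliffordAlgebra.left_induction with
  | algebraMap r => simp [contractLeft_algebraMap, AlgHom.commutes, Algebra.commutes]
  | add x y hx hy => simp only [map_add, hx, hy]; noncomm_ring
  | ι_mul x a hx =>
    rw [contractLeft_ι_mul, hx, map_mul, involute_ι, QuadraticMap.polarBilin_apply_apply, Algebra.smul_def,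
      ← ι_mul_ι_add_swap]
    noncomm_ring

section Ext

variable {n : ℕ} (b : Module.Basis (Fin n) R M)

/-- The projection forgetting the coordinates in `s`. -/
noncomputable def proj (s : Finset (Fin n)) : M →ₗ[R] M :=
  LinearMap.id - ∑ i ∈ s, (b.coord i).smulRight (b i)

theorem proj_apply (s : Finset (Fin n)) (v : M) : proj b s v = v - ∑ i ∈ s, b.repr v i • b i := by
  simp [proj, LinearMap.sum_apply]

theorem repr_proj (s : Finset (Fin n)) (v : M) (i : Fin n) (hi : i ∉ s) :
    b.repr (proj b s v) i = b.repr v i := by
  rw [proj_apply, map_sub, map_sum, Finsupp.sub_apply, Finsupp.finsetSum_apply]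
  simp [Finsupp.single_apply, hi]

/-- The induced endomorphism of the exterior algebra. -/
noncomputable def projIso (s : Finset (Fin n)) : (0 : QuadraticForm R M) →qᵢ (0 : QuadraticForm R M) :=
  ⟨proj b s, fun _ => rfl⟩

theorem ext_key (i : Fin n) (y : CliffordAlgebra (0 : QuadraticForm R M)) :
    y = map (projIso b {i}) y + ι _ (b i) * (contractLeft (b.coord i) y) := by
  induction y using CliffordAlgebra.left_induction with
  | algebraMap r => simp [contractLeft_algebraMap]
  | add x y hx hy => rw [map_add, map_add, mul_add]; nth_rw 1 [hx, hy]; abel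
  | ι_mul z a hz =>
    rw [contractLeft_ι_mul, map_mul, map_apply_ι]
    have hpa : (projIso b {i}) a = a - b.repr a i • b i := by
      show proj b {i} a = _
      rw [proj_apply, Finset.sum_singleton]
    have hsq : ι (0 : QuadraticForm R M) (b i) * ι _ (b i) = 0 := by simp
    have hswap : ι (0 : QuadraticForm R M) (b i) * ι _ a = -(ι _ a * ι _ (b i)) := by
      rw [eq_neg_iff_add_eq_zero, ι_mul_ι_add_swap]; simp [QuadraticMap.polar]
    set w := contractLeft (b.coord i) z
    set Pz := map (projIso b {i}) z
    rw [hpa, map_sub, map_smul, sub_mul, smul_mul_assoc, mul_sub, mul_smul_comm, ← mul_assoc _ (ι _ a) w, hswap,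
      neg_mul, sub_neg_eq_add, Module.Basis.coord_apply]
    nth_rw 1 [hz]
    rw [mul_add, ← mul_assoc]
    have : ι (0 : QuadraticForm R M) (b i) * z = ι _ (b i) * Pz := by
      nth_rw 1 [hz]
      rw [mul_add, ← mul_assoc (ι _ (b i)) (ι _ (b i)), hsq, zero_mul, add_zero]
    rw [this]
    abel

theorem map_proj_eq (y : CliffordAlgebra (0 : QuadraticForm R M)) (h : ∀ d, contractLeft d y = 0)
    (s : Finset (Fin n)) : map (projIso b s) y = y := by
  classical
  induction s using Finset.induction_on with
  | empty =>
    have : projIso b (∅ : Finset (Fin n)) = QuadraticMap.Isometry.id _ := by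
      ext v; show proj b ∅ v = v; simp [proj_apply]
    rw [this, map_id]; rfl
  | insert i s hi ih =>
    have e : projIso b (insert i s) = (projIso b {i}).comp (projIso b s) := by
      ext v
      show proj b (insert i s) v = proj b {i} (proj b s v)
      rw [proj_apply b {i}, Finset.sum_singleton, repr_proj b s v i hi, proj_apply, proj_apply,
        Finset.sum_insert hi]
      abel
    rw [e, ← map_comp_map, AlgHom.comp_apply, ih]
    have := ext_key b i y
    rw [h, mul_zero, add_zero] at this
    exact this.symm

include b in
theorem ext_scalar (y : CliffordAlgebra (0 : QuadraticForm R M)) (h : ∀ d, contractLeft d y = 0) :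
    y ∈ Set.range (algebraMap R (CliffordAlgebra (0 : QuadraticForm R M))) := by
  have h0 := map_proj_eq b y h Finset.univ
  rw [← h0]
  have hz : ∀ v, (projIso b Finset.univ) v = 0 := fun v => by
    show proj b Finset.univ v = 0
    rw [proj_apply, b.sum_repr, sub_self]
  clear h0 h
  induction y using CliffordAlgebra.left_induction with
  | algebraMap r => exact ⟨r, by simp⟩
  | add x y hx hy =>
    obtain ⟨r, hr⟩ := hx; obtain ⟨s, hs⟩ := hy
    exact ⟨r + s, by rw [map_add, map_add, hr, hs]⟩
  | ι_mul z a hz' => exact ⟨0, by rw [map_mul, map_apply_ι, hz, map_zero, map_zero, zero_mul]⟩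

end Ext

variable [Module.Free R M] [Module.Finite R M] {Q : QuadraticForm R M}

/-- A basis indexed by an initial segment of the naturals. -/
noncomputable def finBasis' (R : Type u) (M : Type v) [CommRing R] [AddCommGroup M] [Module R M] [Module.Free R M]
    [Module.Finite R M] : Module.Basis (Fin (Fintype.card (Module.Free.ChooseBasisIndex R M))) R M :=
  (Module.Free.chooseBasis R M).reindex (Fintype.equivFin _)

theorem change_proof (Q : QuadraticForm R M) :
    (-(Q.toBilin (finBasis' R M))).toQuadraticMap = 0 - Q := by
  rw [LinearMap.BilinMap.toQuadraticMap_neg, QuadraticMap.toQuadraticMap_toBilin, zero_sub]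

/-- The linear isomorphism with the exterior algebra. -/
noncomputable def toExt (Q : QuadraticForm R M) :
    CliffordAlgebra Q ≃ₗ[R] CliffordAlgebra (0 : QuadraticForm R M) :=
  changeFormEquiv (change_proof Q)

instance free : Module.Free R (CliffordAlgebra Q) :=
  Module.Free.of_basis (((finBasis' R M).ExteriorAlgebra).map (toExt Q).symm)

instance finite : Module.Finite R (CliffordAlgebra Q) :=
  Module.Finite.of_basis (((finBasis' R M).ExteriorAlgebra).map (toExt Q).symm)

theorem algebraMap_injective : Function.Injective (algebraMap R (CliffordAlgebra Q)) := fun r s h => by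
  have := congrArg (toExt Q) h
  simp only [toExt, changeFormEquiv_apply, changeForm_algebraMap] at this
  exact (ExteriorAlgebra.algebraMap_leftInverse M).injective this

theorem scalar_of_contract (x : CliffordAlgebra Q) (h : ∀ d, contractLeft d x = 0) :
    x ∈ Set.range (algebraMap R (CliffordAlgebra Q)) := by
  obtain ⟨r, hr⟩ := ext_scalar (finBasis' R M) (toExt Q x) fun d => by
    rw [toExt, changeFormEquiv_apply, ← changeForm_contractLeft, h, map_zero]
  exact ⟨r, (toExt Q).injective (by rw [← hr, toExt, changeFormEquiv_apply, changeForm_algebraMap])⟩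

theorem algebraMap_odd (r : R) (h : algebraMap R (CliffordAlgebra Q) r ∈ evenOdd Q 1) : r = 0 :=
  algebraMap_injective (by
    rw [map_zero]
    exact Submodule.disjoint_def.mp (evenOdd_isCompl Q).disjoint _ (SetLike.algebraMap_mem_graded _ _) h)

variable (hQ : QuadGrp.IsRegular Q)

include hQ in
/-- Even elements commuting with all vectors are scalars. -/
theorem even_central (x : CliffordAlgebra Q) (hx : x ∈ evenOdd Q 0) (h : ∀ v, ι Q v * x = x * ι Q v) :
    x ∈ Set.range (algebraMap R (CliffordAlgebra Q)) := by
  refine scalar_of_contract x fun d => ?_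
  obtain ⟨v, rfl⟩ := hQ.2 d
  rw [D_apply, involute_eq_of_mem_even hx, h, sub_self]

include hQ in
/-- Odd elements anticommuting with all vectors vanish. -/
theorem odd_anticentral (x : CliffordAlgebra Q) (hx : x ∈ evenOdd Q 1) (h : ∀ v, ι Q v * x = -(x * ι Q v)) :
    x = 0 := by
  obtain ⟨r, rfl⟩ := scalar_of_contract x fun d => by
    obtain ⟨v, rfl⟩ := hQ.2 d
    rw [D_apply, involute_eq_of_mem_odd hx, h]
    noncomm_ring
  rw [algebraMap_odd r hx, map_zero]

end Groth.Agent.Lib.QuadGrp99.Cliff
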