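import Groth.Agent.Lib.QuadGrp99.Cliff.Split
import Mathlib.RingTheory.Nakayama
import Mathlib.RingTheory.LocalRing.MaximalIdeal.Basic
import Mathlib.RingTheory.OrzechProperty
import Mathlib.LinearAlgebra.Dimension.Constructions

/-!
# Local rings with many units: hyperbolic-like bases, splitting elements, generation by reflections
-/

open CliffordAlgebra

universe u v

namespace Groth.Agent.Lib.QuadGrp99.Cliff

variable {A : Type u} [CommRing A] {V : Type v} [AddCommGroup V] [Module A V]

/-- There is a sequence with all differences invertible. -/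
def InfRes (A : Type u) [CommRing A] : Prop := ∃ s : ℕ → A, ∀ i j, i ≠ j → IsUnit (s i - s j)

section Avoid

variable [IsLocalRing A]

local notation "𝔪" => IsLocalRing.maximalIdeal A

theorem isUnit_iff_notMem (x : A) : IsUnit x ↔ x ∉ 𝔪 := by
  rw [IsLocalRing.mem_maximalIdeal, mem_nonunits_iff, not_not]

theorem lin_bad (s : ℕ → A) (hs : ∀ i j, i ≠ j → IsUnit (s i - s j)) (a b : A) (hab : IsUnit a ∨ IsUnit b) (i j : ℕ)
    (hi : a + b * s i ∈ 𝔪) (hj : a + b * s j ∈ 𝔪) : i = j := by
  by_contra hne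
  have hb : b ∈ 𝔪 := by
    have : b * (s i - s j) ∈ 𝔪 := by convert sub_mem hi hj using 1; ring
    exact ((IsLocalRing.maximalIdeal.isMaximal A).isPrime.mem_or_mem this).resolve_right
      ((isUnit_iff_notMem _).mp (hs i j hne))
  have ha : a ∈ 𝔪 := by simpa using sub_mem hi (Ideal.mul_mem_right (s i) _ hb)
  rcases hab with h | h
  · exact (isUnit_iff_notMem _).mp h ha
  · exact (isUnit_iff_notMem _).mp h hb

theorem quad_bad (s : ℕ → A) (hs : ∀ i j, i ≠ j → IsUnit (s i - s j)) (a b c : A) (hab : IsUnit a ∨ IsUnit c)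
    (i j l : ℕ) (hij : i ≠ j) (hil : i ≠ l) (hjl : j ≠ l)
    (hi : a + b * s i + c * s i ^ 2 ∈ 𝔪) (hj : a + b * s j + c * s j ^ 2 ∈ 𝔪)
    (hl : a + b * s l + c * s l ^ 2 ∈ 𝔪) : False := by
  have hp := (IsLocalRing.maximalIdeal.isMaximal A).isPrime
  have e1 : b + c * (s i + s j) ∈ 𝔪 := (hp.mem_or_mem (show (b + c * (s i + s j)) * (s i - s j) ∈ 𝔪 by
    convert sub_mem hi hj using 1; ring)).resolve_right ((isUnit_iff_notMem _).mp (hs i j hij))
  have e2 : b + c * (s i + s l) ∈ 𝔪 := (hp.mem_or_mem (show (b + c * (s i + s l)) * (s i - s l) ∈ 𝔪 by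
    convert sub_mem hi hl using 1; ring)).resolve_right ((isUnit_iff_notMem _).mp (hs i l hil))
  have hc : c ∈ 𝔪 := (hp.mem_or_mem (show c * (s j - s l) ∈ 𝔪 by
    convert sub_mem e1 e2 using 1; ring)).resolve_right ((isUnit_iff_notMem _).mp (hs j l hjl))
  have hb : b ∈ 𝔪 := by simpa using sub_mem e1 (Ideal.mul_mem_right (s i + s j) _ hc)
  have ha : a ∈ 𝔪 := by
    convert sub_mem (sub_mem hi (Ideal.mul_mem_right (s i ^ 2) _ hc)) (Ideal.mul_mem_right (s i) _ hb) using 1
    ring
  rcases hab with h | h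
  · exact (isUnit_iff_notMem _).mp h ha
  · exact (isUnit_iff_notMem _).mp h hc

/-- Simultaneous avoidance. -/
theorem exists_units (hA : InfRes A) (phi psi : V →ₗ[A] A) (Q : QuadraticForm A V) (a₁ a₂ a₃ : V)
    (h1 : IsUnit (phi a₁)) (h2 : IsUnit (psi a₂)) (h3 : IsUnit (Q a₃)) :
    ∃ s t : A, IsUnit (phi (a₁ + s • a₂ + t • a₃)) ∧ IsUnit (psi (a₁ + s • a₂ + t • a₃)) ∧
      IsUnit (Q (a₁ + s • a₂ + t • a₃)) := by
  classical
  obtain ⟨s, hs⟩ := hA
  obtain ⟨i, hi1, hi2⟩ : ∃ i, IsUnit (phi (a₁ + s i • a₂)) ∧ IsUnit (psi (a₁ + s i • a₂)) := by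
    by_contra hne
    push Not at hne
    let T : Finset ℕ := Finset.range 3
    have sub1 : ((T.filter fun i => phi a₁ + phi a₂ * s i ∈ 𝔪)).card ≤ 1 := Finset.card_le_one.mpr fun x hx y hy =>
      lin_bad s hs _ _ (Or.inl h1) x y (Finset.mem_filter.mp hx).2 (Finset.mem_filter.mp hy).2
    have sub2 : ((T.filter fun i => psi a₁ + psi a₂ * s i ∈ 𝔪)).card ≤ 1 := Finset.card_le_one.mpr fun x hx y hy =>
      lin_bad s hs _ _ (Or.inr h2) x y (Finset.mem_filter.mp hx).2 (Finset.mem_filter.mp hy).2
    have : T ⊆ (T.filter fun i => phi a₁ + phi a₂ * s i ∈ 𝔪) ∪ (T.filter fun i => psi a₁ + psi a₂ * s i ∈ 𝔪) := by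
      intro i hi
      rw [Finset.mem_union, Finset.mem_filter, Finset.mem_filter]
      by_cases h : phi a₁ + phi a₂ * s i ∈ 𝔪
      · exact Or.inl ⟨hi, h⟩
      · refine Or.inr ⟨hi, ?_⟩
        have := hne i (by rw [isUnit_iff_notMem]; simpa [mul_comm] using h)
        rw [isUnit_iff_notMem, not_not] at this
        simpa [mul_comm] using this
    have := (Finset.card_le_card this).trans (Finset.card_union_le _ _)
    simp only [T, Finset.card_range] at this sub1 sub2
    omega
  set a := a₁ + s i • a₂ with ha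
  obtain ⟨j, hj⟩ : ∃ j, IsUnit (phi (a + s j • a₃)) ∧ IsUnit (psi (a + s j • a₃)) ∧ IsUnit (Q (a + s j • a₃)) := by
    by_contra hne
    let T : Finset ℕ := Finset.range 5
    let q2 : ℕ → A := fun j => Q a + QuadraticMap.polar Q a a₃ * s j + Q a₃ * s j ^ 2
    have sub1 : ((T.filter fun j => phi a + phi a₃ * s j ∈ 𝔪)).card ≤ 1 := Finset.card_le_one.mpr fun x hx y hy =>
      lin_bad s hs _ _ (Or.inl hi1) x y (Finset.mem_filter.mp hx).2 (Finset.mem_filter.mp hy).2
    have sub2 : ((T.filter fun j => psi a + psi a₃ * s j ∈ 𝔪)).card ≤ 1 := Finset.card_le_one.mpr fun x hx y hy =>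
      lin_bad s hs _ _ (Or.inl hi2) x y (Finset.mem_filter.mp hx).2 (Finset.mem_filter.mp hy).2
    have sub3 : ((T.filter fun j => q2 j ∈ 𝔪)).card ≤ 2 := by
      by_contra hc
      push Not at hc
      obtain ⟨x, y, z, hx, hy, hz, hxy, hxz, hyz⟩ := Finset.two_lt_card_iff.mp hc
      exact quad_bad s hs _ _ _ (Or.inr h3) x y z hxy hxz hyz (Finset.mem_filter.mp hx).2
        (Finset.mem_filter.mp hy).2 (Finset.mem_filter.mp hz).2
    have : T ⊆ (T.filter fun j => phi a + phi a₃ * s j ∈ 𝔪) ∪ (T.filter fun j => psi a + psi a₃ * s j ∈ 𝔪) ∪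
        (T.filter fun j => q2 j ∈ 𝔪) := by
      intro j hj'
      simp only [Finset.mem_union, Finset.mem_filter]
      by_contra hh
      push Not at hh
      obtain ⟨⟨g1, g2⟩, g3⟩ := hh
      have e3 : Q (a + s j • a₃) = q2 j := by
        simp only [q2]
        rw [QuadraticMap.map_add Q, QuadraticMap.map_smul, QuadraticMap.polar_smul_right, smul_eq_mul, smul_eq_mul]
        ring
      exact hne ⟨j, by rw [isUnit_iff_notMem]; simpa [mul_comm] using g1 hj',
        by rw [isUnit_iff_notMem]; simpa [mul_comm] using g2 hj',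
        by rw [e3, isUnit_iff_notMem]; exact g3 hj'⟩
    have h5 := (Finset.card_le_card this).trans ((Finset.card_union_le _ _).trans
      (Nat.add_le_add_right (Finset.card_union_le _ _) _))
    simp only [T, Finset.card_range] at h5 sub1 sub2 sub3
    omega
  exact ⟨s i, s j, hj⟩

end Avoid

variable (q : QuadraticForm A V)

/-- An orthogonal family of `k` regular planes with `q (e i)` invertible and `B (e i) (f i) = 1`. -/
structure Pairs (k : ℕ) where
  e : Fin k → V
  f : Fin k → V
  c : Fin k → Aˣ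
  d : Fin k → Aˣ
  qe : ∀ i, q (e i) = c i
  pol : ∀ i, QuadraticMap.polar q (e i) (f i) = 1
  disc : ∀ i, 4 * q (e i) * q (f i) - 1 = d i
  ee : ∀ i j, i ≠ j → QuadraticMap.polar q (e i) (e j) = 0
  ef : ∀ i j, i ≠ j → QuadraticMap.polar q (e i) (f j) = 0
  ff : ∀ i j, i ≠ j → QuadraticMap.polar q (f i) (f j) = 0

variable {q} {k : ℕ} (P : Pairs q k)

/-- Orthogonal to all planes of the family below `n`. -/
def Pairs.Perp (n : ℕ) (w : V) : Prop :=
  ∀ i : Fin k, (i : ℕ) < n → QuadraticMap.polar q (P.e i) w = 0 ∧ QuadraticMap.polar q (P.f i) w = 0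

theorem Pairs.perp_add {n : ℕ} {w w' : V} (h : P.Perp n w) (h' : P.Perp n w') : P.Perp n (w + w') := fun i hi => by
  simp [QuadraticMap.polar_add_right, h i hi, h' i hi]

theorem Pairs.perp_smul {n : ℕ} {w : V} (a : A) (h : P.Perp n w) : P.Perp n (a • w) := fun i hi => by
  simp [QuadraticMap.polar_smul_right, h i hi]

theorem Pairs.perp_of_ge {n : ℕ} (i : Fin k) (hi : n ≤ i) : P.Perp n (P.e i) ∧ P.Perp n (P.f i) := by
  refine ⟨fun j hj => ⟨P.ee j i (fun h => by subst h; omega), ?_⟩,
    fun j hj => ⟨P.ef j i (fun h => by subst h; omega), P.ff j i (fun h => by subst h; omega)⟩⟩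
  rw [QuadraticMap.polar_comm]
  exact P.ef i j (fun h => by subst h; omega)

/-- Coordinates along the planes. -/
noncomputable def Pairs.coef : V →ₗ[A] (Fin k → A × A) :=
  LinearMap.pi fun i =>
    LinearMap.prod ((↑(P.d i)⁻¹ : A) • ((2 * q (P.f i)) • q.polarBilin (P.e i) - q.polarBilin (P.f i)))
      ((↑(P.d i)⁻¹ : A) • ((2 * q (P.e i)) • q.polarBilin (P.f i) - q.polarBilin (P.e i)))

theorem Pairs.coef_apply (v : V) (i : Fin k) : P.coef v i =
    ((↑(P.d i)⁻¹ : A) * (2 * q (P.f i) * QuadraticMap.polar q (P.e i) v - QuadraticMap.polar q (P.f i) v),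
     (↑(P.d i)⁻¹ : A) * (2 * q (P.e i) * QuadraticMap.polar q (P.f i) v - QuadraticMap.polar q (P.e i) v)) := rfl

/-- The combination. -/
noncomputable def Pairs.comb : (Fin k → A × A) →ₗ[A] V :=
  ∑ i, ((LinearMap.fst A A A).comp (LinearMap.proj i)).smulRight (P.e i) +
    ∑ i, ((LinearMap.snd A A A).comp (LinearMap.proj i)).smulRight (P.f i)

theorem Pairs.comb_apply (x : Fin k → A × A) :
    P.comb x = ∑ i, (x i).1 • P.e i + ∑ i, (x i).2 • P.f i := by
  simp [Pairs.comb, LinearMap.sum_apply]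

theorem Pairs.polar_comb (x : Fin k → A × A) (j : Fin k) :
    QuadraticMap.polar q (P.e j) (P.comb x) = (x j).1 * (2 * q (P.e j)) + (x j).2 ∧
      QuadraticMap.polar q (P.f j) (P.comb x) = (x j).1 + (x j).2 * (2 * q (P.f j)) := by
  simp only [← QuadraticMap.polarBilin_apply_apply, P.comb_apply, map_add, map_sum, map_smul, smul_eq_mul]
  simp only [QuadraticMap.polarBilin_apply_apply]
  refine ⟨?_, ?_⟩
  · rw [Finset.sum_eq_single j (fun i _ h => by rw [P.ee j i h.symm, mul_zero]) (by simp),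
      Finset.sum_eq_single j (fun i _ h => by rw [P.ef j i h.symm, mul_zero]) (by simp),
      P.pol, QuadraticMap.polar_self, nsmul_eq_mul, Nat.cast_ofNat, mul_one]
  · rw [Finset.sum_eq_single j (fun i _ h => by rw [QuadraticMap.polar_comm, P.ef i j h, mul_zero]) (by simp),
      Finset.sum_eq_single j (fun i _ h => by rw [P.ff j i h.symm, mul_zero]) (by simp),
      QuadraticMap.polar_comm, P.pol, QuadraticMap.polar_self, nsmul_eq_mul, Nat.cast_ofNat, mul_one]

theorem Pairs.coef_comb (x : Fin k → A × A) : P.coef (P.comb x) = x := by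
  funext i
  have hd := P.disc i
  have hu : (↑(P.d i)⁻¹ : A) * ↑(P.d i) = 1 := (P.d i).inv_mul
  refine Prod.ext ?_ ?_ <;>
  · simp only [P.coef_apply, (P.polar_comb x i).1, (P.polar_comb x i).2]
    first
      | linear_combination (x i).1 * hu + (x i).1 * (↑(P.d i)⁻¹ : A) * hd
      | linear_combination (x i).2 * hu + (x i).2 * (↑(P.d i)⁻¹ : A) * hd

/-- The projection to the orthogonal. -/
noncomputable def Pairs.rest : V →ₗ[A] V := LinearMap.id - P.comb ∘ₗ P.coef

theorem Pairs.rest_perp (v : V) : P.Perp k (P.rest v) := by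
  intro j _
  have hd := P.disc j
  have hu : (↑(P.d j)⁻¹ : A) * ↑(P.d j) = 1 := (P.d j).inv_mul
  simp only [Pairs.rest, LinearMap.sub_apply, LinearMap.id_apply, LinearMap.comp_apply,
    QuadraticMap.polar_sub_right, (P.polar_comb _ j).1, (P.polar_comb _ j).2]
  simp only [P.coef_apply]
  constructor
  · linear_combination (-QuadraticMap.polar q (P.e j) v) * hu - QuadraticMap.polar q (P.e j) v * (↑(P.d j)⁻¹ : A) * hd
  · linear_combination (-QuadraticMap.polar q (P.f j) v) * hu - QuadraticMap.polar q (P.f j) v * (↑(P.d j)⁻¹ : A) * hd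

theorem Pairs.polar_rest (w v : V) (hw : P.Perp k w) :
    QuadraticMap.polar q w (P.rest v) = QuadraticMap.polar q w v := by
  have h0 : QuadraticMap.polar q w (P.comb (P.coef v)) = 0 := by
    simp only [← QuadraticMap.polarBilin_apply_apply, P.comb_apply, map_add, map_sum, map_smul, smul_eq_mul]
    simp only [QuadraticMap.polarBilin_apply_apply]
    rw [Finset.sum_eq_zero fun i _ => by rw [QuadraticMap.polar_comm, (hw i i.isLt).1, mul_zero],
      Finset.sum_eq_zero fun i _ => by rw [QuadraticMap.polar_comm, (hw i i.isLt).2, mul_zero], add_zero]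
  simp only [Pairs.rest, LinearMap.sub_apply, LinearMap.id_apply, LinearMap.comp_apply,
    QuadraticMap.polar_sub_right, h0, sub_zero]

variable [IsLocalRing A] [Module.Free A V] [Module.Finite A V]

local notation "𝔪" => IsLocalRing.maximalIdeal A

theorem mem_smul_top (hq : QuadGrp.IsRegular q) (x : V) (h : ∀ v, QuadraticMap.polar q x v ∈ 𝔪) :
    x ∈ 𝔪 • (⊤ : Submodule A V) := by
  let b := finBasis' A V
  rw [← b.sum_repr x]
  refine Submodule.sum_mem _ fun i _ => Submodule.smul_mem_smul ?_ Submodule.mem_top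
  obtain ⟨y, hy⟩ := hq.2 (b.coord i)
  have := h y
  rwa [QuadraticMap.polar_comm, ← QuadraticMap.polarBilin_apply_apply, hy] at this

omit [Module.Free A V] in
theorem finrank_le_of_dense {ι' : Type*} [Fintype ι'] (g : ι' → V)
    (h : ∀ v, ∃ x ∈ Submodule.span A (Set.range g), v - x ∈ 𝔪 • (⊤ : Submodule A V)) :
    Module.finrank A V ≤ Fintype.card ι' := by
  have htop : (⊤ : Submodule A V) ≤ Submodule.span A (Set.range g) := by
    refine Submodule.le_of_le_smul_of_le_jacobson_bot (I := 𝔪) Module.Finite.fg_top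
      (IsLocalRing.maximalIdeal_le_jacobson _) ?_
    intro v _
    obtain ⟨x, hx, hv⟩ := h v
    exact Submodule.mem_sup.mpr ⟨x, hx, v - x, hv, by abel⟩
  have := finrank_range_le_card (R := A) g
  rwa [Set.finrank, top_le_iff.mp htop, finrank_top] at this

theorem exists_pairs_succ (hA : InfRes A) (hq : QuadGrp.IsRegular q) (m : ℕ) (hV : Module.finrank A V = 2 * m)
    (hk : k < m) (P : Pairs q k) : Nonempty (Pairs q (k + 1)) := by
  classical
  let g : Fin k × Fin 2 → V := fun p => if p.2 = 0 then P.e p.1 else P.f p.1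
  have hcomb : ∀ x, P.comb x ∈ Submodule.span A (Set.range g) := fun x => by
    rw [P.comb_apply]
    refine add_mem (Submodule.sum_mem _ fun i _ => ?_) (Submodule.sum_mem _ fun i _ => ?_)
    · exact Submodule.smul_mem _ _ (Submodule.subset_span ⟨(i, 0), by simp [g]⟩)
    · exact Submodule.smul_mem _ _ (Submodule.subset_span ⟨(i, 1), by simp [g]⟩)
  -- a vector of invertible length
  obtain ⟨e, he, hqe⟩ : ∃ e, P.Perp k e ∧ IsUnit (q e) := by
    by_contra hne
    push Not at hne
    have hbad : ∀ w, P.Perp k w → q w ∈ 𝔪 := fun w hw => by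
      have := hne w hw
      rwa [isUnit_iff_notMem, not_not] at this
    have := finrank_le_of_dense g fun v => ⟨P.comb (P.coef v), hcomb _, by
      rw [show v - P.comb (P.coef v) = P.rest v from rfl]
      refine mem_smul_top hq _ fun v' => ?_
      rw [← P.polar_rest _ _ (P.rest_perp v), QuadraticMap.polar]
      exact sub_mem (sub_mem (hbad _ (P.perp_add (P.rest_perp v) (P.rest_perp v'))) (hbad _ (P.rest_perp v)))
        (hbad _ (P.rest_perp v'))⟩
    simp [hV] at this
    omega
  let phi : V →ₗ[A] A := q.polarBilin e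
  obtain ⟨w1, hw1, hphi⟩ : ∃ w, P.Perp k w ∧ IsUnit (phi w) := by
    by_contra hne
    push Not at hne
    have : e ∈ 𝔪 • (⊤ : Submodule A V) := mem_smul_top hq e fun v => by
      have := hne _ (P.rest_perp v)
      rw [isUnit_iff_notMem, not_not] at this
      rwa [← P.polar_rest e v he]
    refine (isUnit_iff_notMem _).mp hqe ?_
    clear hqe he phi hne
    refine (Submodule.smul_induction_on (p := fun x => q x ∈ 𝔪 ∧ ∀ v, QuadraticMap.polar q x v ∈ 𝔪) this
      (fun r hr x _ => ⟨?_, fun v => ?_⟩) fun x y hx hy => ⟨?_, fun v => ?_⟩).1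
    · rw [QuadraticMap.map_smul, smul_eq_mul]
      exact Ideal.mul_mem_right _ _ (Ideal.mul_mem_left _ _ hr)
    · rw [QuadraticMap.polar_smul_left, smul_eq_mul]
      exact Ideal.mul_mem_right _ _ hr
    · rw [QuadraticMap.map_add q]
      exact add_mem (add_mem hx.1 hy.1) (hx.2 y)
    · rw [QuadraticMap.polar_add_left]
      exact add_mem (hx.2 v) (hy.2 v)
  let Q' : QuadraticForm A V := (4 * q e) • q - QuadraticMap.linMulLin phi phi
  have hQ' : ∀ w, Q' w = 4 * q e * q w - phi w * phi w := fun w => rfl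
  obtain ⟨w2, hw2, hQ2⟩ : ∃ w, P.Perp k w ∧ IsUnit (Q' w) := by
    by_cases h2 : IsUnit (2 : A)
    · by_contra hne
      push Not at hne
      have hbad : ∀ w, P.Perp k w → Q' w ∈ 𝔪 := fun w hw => by
        have := hne w hw
        rwa [isUnit_iff_notMem, not_not] at this
      obtain ⟨u, hu⟩ := h2.mul hqe
      let r : V →ₗ[A] V := LinearMap.id - ((↑u⁻¹ : A) • phi).smulRight e
      have hr : ∀ w, r w = w - ((↑u⁻¹ : A) * phi w) • e := fun w => rfl
      let g' : Fin k × Fin 2 ⊕ Unit → V := Sum.elim g fun _ => e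
      have := finrank_le_of_dense (A := A) g' fun v =>
          ⟨P.comb (P.coef v) + ((↑u⁻¹ : A) * phi (P.rest v)) • e, ?_, ?_⟩
      · simp [hV] at this
        omega
      · refine add_mem (Submodule.span_mono ?_ (hcomb _)) (Submodule.smul_mem _ _ (Submodule.subset_span ⟨Sum.inr (), rfl⟩))
        rintro _ ⟨p, rfl⟩
        exact ⟨Sum.inl p, rfl⟩
      · have e0 : v - (P.comb (P.coef v) + ((↑u⁻¹ : A) * phi (P.rest v)) • e) = r (P.rest v) := by
          rw [hr, show P.rest v = v - P.comb (P.coef v) from rfl]; abel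
        rw [e0]
        have hrp : P.Perp k (r (P.rest v)) := by
          rw [hr, sub_eq_add_neg, ← neg_smul]
          exact P.perp_add (P.rest_perp v) (P.perp_smul _ he)
        refine mem_smul_top hq _ fun v' => ?_
        rw [← P.polar_rest _ _ hrp]
        have hw := P.rest_perp v'
        have h0 := P.rest_perp v
        generalize P.rest v = w at h0 ⊢
        generalize P.rest v' = w' at hw ⊢
        have hpol : 4 * q e * QuadraticMap.polar q w w' - 2 * phi w * phi w' ∈ 𝔪 := by
          have h3 := sub_mem (sub_mem (hbad _ (P.perp_add h0 hw)) (hbad _ h0)) (hbad _ hw)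
          simp only [hQ', map_add] at h3
          rw [QuadraticMap.map_add q] at h3
          convert h3 using 1
          ring
        have hphi' : phi w' = QuadraticMap.polar q e w' := rfl
        rw [hr, QuadraticMap.polar_sub_left, QuadraticMap.polar_smul_left, smul_eq_mul, ← hphi']
        have hu2 : IsUnit (4 * q e) := by
          rw [show (4 : A) * q e = 2 * (2 * q e) by ring]
          exact h2.mul (h2.mul hqe)
        have hp := (IsLocalRing.maximalIdeal.isMaximal A).isPrime
        refine (hp.mem_or_mem (show 4 * q e * (QuadraticMap.polar q w w' - (↑u⁻¹ : A) * phi w * phi w') ∈ 𝔪 from ?_)).resolve_left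
          ((isUnit_iff_notMem _).mp hu2)
        convert hpol using 1
        have h7 : (↑u⁻¹ : A) * (2 * q e) = 1 := by rw [← hu]; exact u.inv_mul
        linear_combination (-2 * phi w * phi w') * h7
    · refine ⟨w1, hw1, ?_⟩
      rw [isUnit_iff_notMem] at h2 hphi ⊢
      rw [not_not] at h2
      intro hmem
      have h4 : 4 * q e * q w1 ∈ 𝔪 :=
        Ideal.mul_mem_right _ _ (Ideal.mul_mem_right _ _ (by
          rw [show (4 : A) = 2 * 2 by norm_num]; exact Ideal.mul_mem_right _ _ h2))
      have := sub_mem h4 hmem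
      rw [hQ', sub_sub_cancel] at this
      exact hphi (((IsLocalRing.maximalIdeal.isMaximal A).isPrime.mem_or_mem this).elim id id)
  obtain ⟨s, t, hf1, -, hf3⟩ := exists_units hA phi phi Q' w1 w1 w2 hphi hphi hQ2
  generalize hf : w1 + s • w1 + t • w2 = f at hf1 hf3
  have hfp : P.Perp k f := hf ▸ P.perp_add (P.perp_add hw1 (P.perp_smul _ hw1)) (P.perp_smul _ hw2)
  obtain ⟨c, hc⟩ := hqe
  obtain ⟨p, hp⟩ := hf1
  obtain ⟨d, hd⟩ := hf3
  let f' : V := (↑p⁻¹ : A) • f
  have hf'p : P.Perp k f' := P.perp_smul _ hfp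
  refine ⟨{ e := Fin.snoc P.e e, f := Fin.snoc P.f f', c := Fin.snoc P.c c, d := Fin.snoc P.d (p⁻¹ * p⁻¹ * d),
            qe := ?_, pol := ?_, disc := ?_, ee := ?_, ef := ?_, ff := ?_ }⟩
  · intro i
    induction i using Fin.lastCases with
    | last => simp [hc]
    | cast i => simp [P.qe]
  · intro i
    induction i using Fin.lastCases with
    | last =>
      simp only [Fin.snoc_last, f', QuadraticMap.polar_smul_right, smul_eq_mul]
      rw [show QuadraticMap.polar q e f = phi f from rfl, ← hp, p.inv_mul]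
    | cast i => simp [P.pol]
  · intro i
    induction i using Fin.lastCases with
    | last =>
      simp only [Fin.snoc_last, f', QuadraticMap.map_smul, smul_eq_mul, Units.val_mul]
      rw [hd, hQ', ← hp]
      linear_combination (1 + (↑p⁻¹ : A) * ↑p) * p.inv_mul
    | cast i => simp [P.disc]
  · intro i j hij
    induction i using Fin.lastCases with
    | last =>
      induction j using Fin.lastCases with
      | last => exact absurd rfl hij
      | cast j => simp only [Fin.snoc_last, Fin.snoc_castSucc]; rw [QuadraticMap.polar_comm]; exact (he j j.isLt).1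
    | cast i =>
      induction j using Fin.lastCases with
      | last => simp only [Fin.snoc_last, Fin.snoc_castSucc]; exact (he i i.isLt).1
      | cast j => simp only [Fin.snoc_castSucc]; exact P.ee i j fun h => hij (by rw [h])
  · intro i j hij
    induction i using Fin.lastCases with
    | last =>
      induction j using Fin.lastCases with
      | last => exact absurd rfl hij
      | cast j => simp only [Fin.snoc_last, Fin.snoc_castSucc]; rw [QuadraticMap.polar_comm]; exact (he j j.isLt).2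
    | cast i =>
      induction j using Fin.lastCases with
      | last => simp only [Fin.snoc_last, Fin.snoc_castSucc]; exact (hf'p i i.isLt).1
      | cast j => simp only [Fin.snoc_castSucc]; exact P.ef i j fun h => hij (by rw [h])
  · intro i j hij
    induction i using Fin.lastCases with
    | last =>
      induction j using Fin.lastCases with
      | last => exact absurd rfl hij
      | cast j => simp only [Fin.snoc_last, Fin.snoc_castSucc]; rw [QuadraticMap.polar_comm]; exact (hf'p j j.isLt).2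
    | cast i =>
      induction j using Fin.lastCases with
      | last => simp only [Fin.snoc_last, Fin.snoc_castSucc]; exact (hf'p i i.isLt).2
      | cast j => simp only [Fin.snoc_castSucc]; exact P.ff i j fun h => hij (by rw [h])

theorem exists_pairs (hA : InfRes A) (hq : QuadGrp.IsRegular q) (m : ℕ) (hV : Module.finrank A V = 2 * m) :
    ∀ k ≤ m, Nonempty (Pairs q k)
  | 0, _ => ⟨{ e := Fin.elim0, f := Fin.elim0, c := Fin.elim0, d := Fin.elim0, qe := Fin.rec0, pol := Fin.rec0,
               disc := Fin.rec0, ee := fun i => i.elim0, ef := fun i => i.elim0, ff := fun i => i.elim0 }⟩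
  | k + 1, h => (exists_pairs hA hq m hV k (Nat.le_of_succ_le h)).elim (exists_pairs_succ hA hq m hV h)

omit [IsLocalRing A] [Module.Free A V] [Module.Finite A V] in
theorem Pairs.rest_eq_zero [IsLocalRing A] [Module.Free A V] [Module.Finite A V] (m : ℕ)
    (hV : Module.finrank A V = 2 * m) (hk : k = m) (v : V) : P.rest v = 0 := by
  classical
  obtain ⟨e⟩ : Nonempty ((Fin k → A × A) ≃ₗ[A] V) := ⟨LinearEquiv.ofFinrankEq _ _ (by
    simp [Module.finrank_pi_fintype, hV, hk, mul_comm])⟩
  have hsurj : Function.Surjective P.coef := fun x => ⟨P.comb x, P.coef_comb x⟩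
  have hinj : Function.Injective P.coef := by
    have := OrzechProperty.injective_of_surjective_endomorphism (R := A) (e.toLinearMap.comp P.coef)
      (e.surjective.comp hsurj)
    exact fun x y h => this (by simp [h])
  refine hinj ?_
  rw [map_zero]
  simp only [Pairs.rest, LinearMap.sub_apply, LinearMap.id_apply, LinearMap.comp_apply, map_sub, P.coef_comb,
    sub_self]

omit [IsLocalRing A] [Module.Free A V] [Module.Finite A V] in
theorem anticomm {x y : V} (h : QuadraticMap.polar q x y = 0) : ι q x * ι q y = -(ι q y * ι q x) :=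
  eq_neg_of_add_eq_zero_left (by rw [ι_mul_ι_add_swap, h, map_zero])

/-- The idempotent-like element of a plane. -/
noncomputable def Pairs.plane (i : Fin k) : CliffordAlgebra q := ι q (P.e i) * ι q (P.f i)

omit [IsLocalRing A] [Module.Free A V] [Module.Finite A V] in
theorem Pairs.plane_commute (i : Fin k) (w : V) (he : QuadraticMap.polar q (P.e i) w = 0)
    (hf : QuadraticMap.polar q (P.f i) w = 0) : P.plane i * ι q w = ι q w * P.plane i := by
  rw [Pairs.plane, mul_assoc, anticomm hf, mul_neg, ← mul_assoc, anticomm he, neg_mul, neg_neg, mul_assoc]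

omit [IsLocalRing A] [Module.Free A V] [Module.Finite A V] in
theorem Pairs.plane_swap (i : Fin k) :
    P.plane i * ι q (P.e i) = ι q (P.e i) * (1 - P.plane i) ∧
      P.plane i * ι q (P.f i) = ι q (P.f i) * (1 - P.plane i) ∧ IsUnit (1 - 2 * P.plane i) := by
  have hfe : ι q (P.f i) * ι q (P.e i) = 1 - P.plane i :=
    eq_sub_of_add_eq' (by rw [Pairs.plane, ι_mul_ι_add_swap, P.pol, map_one])
  have hff := ι_sq_scalar q (P.f i)
  have hee := ι_sq_scalar q (P.e i)
  refine ⟨by rw [Pairs.plane, mul_assoc, hfe, Pairs.plane], ?_, ?_⟩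
  · have : ι q (P.f i) * P.plane i = ι q (P.f i) - algebraMap A _ (q (P.f i)) * ι q (P.e i) := by
      rw [Pairs.plane, ← mul_assoc, hfe, Pairs.plane, sub_mul, one_mul, mul_assoc, hff, Algebra.commutes]
    rw [mul_sub, mul_one, this, sub_sub_cancel, Pairs.plane, mul_assoc, hff, Algebra.commutes]
  · have hsq : P.plane i * P.plane i =
        P.plane i - algebraMap A _ (q (P.e i) * q (P.f i)) := by
      calc P.plane i * P.plane i = ι q (P.e i) * (ι q (P.f i) * ι q (P.e i)) * ι q (P.f i) := by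
            rw [Pairs.plane]; noncomm_ring
        _ = ι q (P.e i) * ι q (P.f i) - (ι q (P.e i) * ι q (P.e i)) * (ι q (P.f i) * ι q (P.f i)) := by
            rw [hfe, Pairs.plane]; noncomm_ring
        _ = _ := by rw [hee, hff, ← map_mul (algebraMap A (CliffordAlgebra q))]; rfl
    have h2 : (1 - 2 * P.plane i) * (1 - 2 * P.plane i) = algebraMap A _ (-(P.d i : A)) := by
      calc (1 - 2 * P.plane i) * (1 - 2 * P.plane i)
          = 1 - 4 * P.plane i + 4 * (P.plane i * P.plane i) := by noncomm_ring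
        _ = 1 - 4 * algebraMap A _ (q (P.e i) * q (P.f i)) := by rw [hsq]; noncomm_ring
        _ = _ := by rw [← P.disc i, map_neg, map_sub, map_one, mul_assoc (4 : A), map_mul _ (4 : A), map_ofNat]; abel
    have hu : IsUnit (algebraMap A (CliffordAlgebra q) (-(P.d i : A))) := (P.d i).isUnit.neg.map _
    rw [← h2] at hu
    exact ((Commute.refl (1 - 2 * P.plane i)).isUnit_mul_iff.mp hu).1

/-- The splitting element of the first `n` planes. -/
noncomputable def Pairs.zel : ℕ → CliffordAlgebra q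
  | 0 => 0
  | n + 1 => if h : n < k then Pairs.zel n + P.plane ⟨n, h⟩ - 2 * (Pairs.zel n * P.plane ⟨n, h⟩) else Pairs.zel n

omit [IsLocalRing A] [Module.Free A V] [Module.Finite A V] in
theorem Pairs.zel_props : ∀ n ≤ k, P.zel n ∈ evenOdd q 0 ∧ IsUnit (1 - 2 * P.zel n) ∧
    (∀ w, P.Perp n w → P.zel n * ι q w = ι q w * P.zel n) ∧
    ∀ i : Fin k, (i : ℕ) < n → P.zel n * ι q (P.e i) = ι q (P.e i) * (1 - P.zel n) ∧
      P.zel n * ι q (P.f i) = ι q (P.f i) * (1 - P.zel n)
  | 0, _ => ⟨zero_mem _, by simp [Pairs.zel], fun w _ => by simp [Pairs.zel], fun i h => absurd h (Nat.not_lt_zero _)⟩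
  | n + 1, h => by
    obtain ⟨z1, z2, z3, z4⟩ := Pairs.zel_props n (Nat.le_of_succ_le h)
    set i0 : Fin k := ⟨n, h⟩ with hi0
    obtain ⟨w1, w2, w3⟩ := P.plane_swap i0
    have hd : P.zel (n + 1) = P.zel n + P.plane i0 - 2 * (P.zel n * P.plane i0) := by
      rw [Pairs.zel, dif_pos (show n < k from h)]
    have hw0 : P.plane i0 ∈ evenOdd q 0 := ι_mul_ι_mem_evenOdd_zero q _ _
    refine ⟨?_, ?_, fun w hw => ?_, fun i hi => ?_⟩
    · rw [hd, two_mul]
      exact sub_mem (add_mem z1 hw0)
        (add_mem (by simpa using SetLike.mul_mem_graded z1 hw0) (by simpa using SetLike.mul_mem_graded z1 hw0))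
    · rw [hd, show (1 - 2 * (P.zel n + P.plane i0 - 2 * (P.zel n * P.plane i0)) : CliffordAlgebra q) =
        (1 - 2 * P.zel n) * (1 - 2 * P.plane i0) by noncomm_ring]
      exact z2.mul w3
    · have ha := z3 w fun i hi => hw i (by omega)
      have hb := P.plane_commute i0 w (hw i0 (by simp [hi0])).1 (hw i0 (by simp [hi0])).2
      rw [hd]
      calc (P.zel n + P.plane i0 - 2 * (P.zel n * P.plane i0)) * ι q w
          = P.zel n * ι q w + P.plane i0 * ι q w - 2 * (P.zel n * (P.plane i0 * ι q w)) := by noncomm_ring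
        _ = ι q w * P.zel n + ι q w * P.plane i0 - 2 * ((P.zel n * ι q w) * P.plane i0) := by
            rw [hb, mul_assoc (P.zel n), ← ha]
        _ = _ := by rw [ha]; noncomm_ring
    · have alg : ∀ (z w v : CliffordAlgebra q), (z * v = v * (1 - z) ∧ w * v = v * w ∨
          z * v = v * z ∧ w * v = v * (1 - w)) →
          (z + w - 2 * (z * w)) * v = v * (1 - (z + w - 2 * (z * w))) := by
        rintro z w v (⟨h1, h2⟩ | ⟨h1, h2⟩) <;>
        calc (z + w - 2 * (z * w)) * v = z * v + w * v - 2 * (z * (w * v)) := by noncomm_ring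
          _ = _ := by rw [h2, ← mul_assoc z v, h1]; noncomm_ring
      rw [hd]
      rcases Nat.lt_succ_iff_lt_or_eq.mp hi with hlt | heq
      · have hne : i0 ≠ i := fun e => by rw [← e, hi0] at hlt; exact absurd hlt (lt_irrefl _)
        refine ⟨alg _ _ _ (Or.inl ⟨(z4 i hlt).1, P.plane_commute i0 _ (P.ee i0 i hne) ?_⟩),
          alg _ _ _ (Or.inl ⟨(z4 i hlt).2, P.plane_commute i0 _ (P.ef i0 i hne) (P.ff i0 i hne)⟩)⟩
        rw [QuadraticMap.polar_comm]; exact P.ef i i0 hne.symm
      · obtain rfl : i = i0 := Fin.ext heq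
        have hp := P.perp_of_ge (n := n) i0 le_rfl
        exact ⟨alg _ _ _ (Or.inr ⟨z3 _ hp.1, w1⟩), alg _ _ _ (Or.inr ⟨z3 _ hp.2, w2⟩)⟩

theorem exists_split (hA : InfRes A) (hq : QuadGrp.IsRegular q) (m : ℕ) (hV : Module.finrank A V = 2 * m) :
    ∃ z : CliffordAlgebra q, IsSplit q z := by
  obtain ⟨P⟩ := exists_pairs hA hq m hV m le_rfl
  obtain ⟨z1, z2, -, z4⟩ := P.zel_props m le_rfl
  refine ⟨_, z1, fun v => ?_, z2⟩
  have hv := P.rest_eq_zero m hV rfl v
  rw [Pairs.rest, LinearMap.sub_apply, sub_eq_zero, LinearMap.id_apply, LinearMap.comp_apply, P.comb_apply] at hv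
  rw [hv, map_add, map_sum, map_sum, mul_add, add_mul, Finset.mul_sum, Finset.mul_sum, Finset.sum_mul,
    Finset.sum_mul]
  simp only [map_smul, mul_smul_comm, smul_mul_assoc, fun i : Fin m => (z4 i i.isLt).1,
    fun i : Fin m => (z4 i i.isLt).2]

/-- The orthogonal of the planes below `n`, as a submodule. -/
def Pairs.perpSub (n : ℕ) : Submodule A V where
  carrier := {w | P.Perp n w}
  add_mem' := P.perp_add
  zero_mem' := fun i _ => by simp [QuadraticMap.polar_zero_right]
  smul_mem' := fun a _ h => P.perp_smul a h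

theorem move (hA : InfRes A) (W : Submodule A V) (K : V → Prop)
    (hK : ∀ x, K x → ∀ w ∈ W, QuadraticMap.polar q x w = 0)
    (v w : V) (hv : w - v ∈ W) (hqq : q w = q v) (a₁ a₂ a₃ : V) (p1 : a₁ ∈ W) (p2 : a₂ ∈ W) (p3 : a₃ ∈ W) (u1 : IsUnit (QuadraticMap.polar q v a₁)) (u2 : IsUnit (QuadraticMap.polar q w a₂))
    (u3 : IsUnit (q a₃)) :
    ∃ (T : V ≃ₗ[A] V) (p : ℕ) (u : (CliffordAlgebra q)ˣ), Lifted q T p u ∧ T ∈ QuadGrp.O q ∧ T v = w ∧
      ∀ x, K x → T x = x := by
  have fixes : ∀ (a : V) (c : Aˣ) (hc : q a = c), a ∈ W → ∀ x, K x → refl a c hc x = x := by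
    intro a c hc ha x hx
    rw [refl_apply, QuadraticMap.polar_comm, hK x hx a ha, mul_zero, zero_smul, sub_zero]
  have refl_move : ∀ (v w : V) (c : Aˣ) (hc : q (w - v) = c), q w = q v → refl (w - v) c hc v = w := by
    intro v w c hc hqq
    have : QuadraticMap.polar q (w - v) v = -(c : A) := by
      rw [← hc, QuadraticMap.polar_sub_left, QuadraticMap.polar_self, sub_eq_add_neg w v, QuadraticMap.map_add q,
        QuadraticMap.map_neg, QuadraticMap.polar_neg_right, hqq, nsmul_eq_mul, Nat.cast_ofNat]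
      ring
    rw [refl_apply, this, mul_neg, c.inv_mul, neg_smul, one_smul, sub_neg_eq_add, add_sub_cancel]
  by_cases hd : IsUnit (q (w - v))
  · obtain ⟨c, hc⟩ := hd
    exact ⟨refl (w - v) c hc.symm, 1, _, lifted_refl _ c hc.symm, refl_mem _ c hc.symm,
      refl_move v w c hc.symm hqq, fixes _ c hc.symm hv⟩
  obtain ⟨s, t, g1, g2, g3⟩ := exists_units hA (q.polarBilin v) (q.polarBilin w) q a₁ a₂ a₃ u1 u2 u3
  have ha : a₁ + s • a₂ + t • a₃ ∈ W := add_mem (add_mem p1 (W.smul_mem _ p2)) (W.smul_mem _ p3)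
  generalize a₁ + s • a₂ + t • a₃ = a at g1 g2 g3 ha
  obtain ⟨c, hc⟩ := g3
  let w' := refl a c hc.symm w
  have hd' : w' - v ∈ W := by
    simp only [w', refl_apply]
    rw [sub_right_comm, sub_eq_add_neg (w - v), ← neg_smul]
    exact add_mem hv (W.smul_mem _ ha)
  have hq' : q w' = q v := (refl_mem a c hc.symm w).trans hqq
  have hu : IsUnit (q (w' - v)) := by
    have e : q (w' - v) = q (w - v) +
        (↑c⁻¹ : A) * (QuadraticMap.polar q w a * QuadraticMap.polar q v a) := by
      simp only [w', refl_apply]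
      rw [sub_right_comm, sub_eq_add_neg (w - v), QuadraticMap.map_add q, QuadraticMap.map_neg,
        QuadraticMap.map_smul, QuadraticMap.polar_neg_right, QuadraticMap.polar_smul_right,
        QuadraticMap.polar_sub_left, QuadraticMap.polar_comm q a w, ← hc, smul_eq_mul, smul_eq_mul]
      linear_combination ((↑c⁻¹ : A) * QuadraticMap.polar q w a ^ 2) * c.inv_mul
    rw [e]
    by_contra hn
    rw [isUnit_iff_notMem, not_not] at hn hd
    have := sub_mem hn hd
    rw [add_sub_cancel_left] at this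
    exact (isUnit_iff_notMem _).mp ((c⁻¹).isUnit.mul (g2.mul g1)) this
  obtain ⟨c', hc'⟩ := hu
  refine ⟨(refl (w' - v) c' hc'.symm).trans (refl a c hc.symm), 1 + 1, _,
    (lifted_refl a c hc.symm).mul (lifted_refl (w' - v) c' hc'.symm), fun x => ?_, ?_, fun x hx => ?_⟩
  · rw [LinearEquiv.trans_apply, refl_mem a c hc.symm, refl_mem (w' - v) c' hc'.symm]
  · rw [LinearEquiv.trans_apply, refl_move v w' c' hc'.symm hq']
    simp only [w', refl_apply, QuadraticMap.polar_sub_right, QuadraticMap.polar_smul_right, QuadraticMap.polar_self,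
      ← hc, smul_eq_mul, nsmul_eq_mul, Nat.cast_ofNat]
    rw [sub_sub, ← add_smul, sub_eq_self]
    convert zero_smul A a using 2
    linear_combination (-2 * (↑c⁻¹ : A) * QuadraticMap.polar q a w) * c.inv_mul
  · rw [LinearEquiv.trans_apply, fixes _ c' hc'.symm hd' x hx, fixes _ c hc.symm ha x hx]

/-- Every isometry is a product of reflections. -/
theorem exists_lifted (hA : InfRes A) (hq : QuadGrp.IsRegular q) (m : ℕ) (hV : Module.finrank A V = 2 * m)
    (g : V ≃ₗ[A] V) (hg : g ∈ QuadGrp.O q) :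
    ∃ (p : ℕ) (u : (CliffordAlgebra q)ˣ), Lifted q g p u := by
  obtain ⟨P⟩ := exists_pairs hA hq m hV m le_rfl
  have hpol : ∀ (g : V ≃ₗ[A] V), g ∈ QuadGrp.O q → ∀ x y,
      QuadraticMap.polar q (g x) (g y) = QuadraticMap.polar q x y := fun g hg x y => by
    simp only [QuadraticMap.polar, ← map_add]; rw [hg, hg, hg]
  -- downward induction on the number of fixed planes
  suffices H : ∀ r ≤ m, ∀ g : V ≃ₗ[A] V, g ∈ QuadGrp.O q →
      (∀ i : Fin m, (i : ℕ) < m - r → g (P.e i) = P.e i ∧ g (P.f i) = P.f i) →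
      ∃ (p : ℕ) (u : (CliffordAlgebra q)ˣ), Lifted q g p u by
    exact H m le_rfl g hg fun i hi => absurd hi (by omega)
  intro r
  induction r with
  | zero =>
    intro _ g hg hfix
    have : g = LinearEquiv.refl A V := by
      ext v
      have hv := P.rest_eq_zero m hV rfl v
      rw [Pairs.rest, LinearMap.sub_apply, sub_eq_zero, LinearMap.id_apply, LinearMap.comp_apply, P.comb_apply] at hv
      rw [LinearEquiv.refl_apply, hv, map_add, map_sum, map_sum]
      simp only [map_smul, fun i : Fin m => (hfix i (by omega)).1, fun i : Fin m => (hfix i (by omega)).2]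
    exact ⟨0, 1, this ▸ lifted_one⟩
  | succ r ih =>
    intro hr g hg hfix
    set j : Fin m := ⟨m - (r + 1), by omega⟩ with hj
    have hge := P.perp_of_ge (n := (j : ℕ)) j le_rfl
    have gperp : ∀ (g : V ≃ₗ[A] V), g ∈ QuadGrp.O q →
        (∀ i : Fin m, (i : ℕ) < j → g (P.e i) = P.e i ∧ g (P.f i) = P.f i) →
        ∀ x, P.Perp j x → P.Perp j (g x) := fun g hg hfix x hx i hi => by
      refine ⟨?_, ?_⟩
      · rw [← (hfix i hi).1, hpol g hg]; exact (hx i hi).1
      · rw [← (hfix i hi).2, hpol g hg]; exact (hx i hi).2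
    let K : V → Prop := fun x => ∃ i : Fin m, (i : ℕ) < j ∧ (x = P.e i ∨ x = P.f i)
    have hK : ∀ x, K x → ∀ w, P.Perp j w → QuadraticMap.polar q x w = 0 := by
      rintro x ⟨i, hi, rfl | rfl⟩ w hw
      exacts [(hw i hi).1, (hw i hi).2]
    have e1 := gperp g hg hfix _ hge.1
    -- fix e
    obtain ⟨T, p, u, hT, hTO, hTv, hTK⟩ := move hA (P.perpSub j) K hK (P.e j) (g (P.e j))
      (by rw [sub_eq_add_neg, ← neg_one_smul A (P.e j)]; exact P.perp_add e1 (P.perp_smul _ hge.1))
      (hg _) (P.f j) (g (P.f j)) (P.e j) hge.2 (gperp g hg hfix _ hge.2) hge.1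
      (by rw [P.pol]; exact isUnit_one) (by rw [hpol g hg, P.pol]; exact isUnit_one) (P.qe j ▸ (P.c j).isUnit)
    set g' : V ≃ₗ[A] V := g.trans T.symm with hg'
    have hg'O : g' ∈ QuadGrp.O q := fun x => by
      rw [hg', LinearEquiv.trans_apply]
      conv_rhs => rw [← hg x, ← T.apply_symm_apply (g x), hTO]
    have hfix' : ∀ i : Fin m, (i : ℕ) < j → g' (P.e i) = P.e i ∧ g' (P.f i) = P.f i := fun i hi => by
      simp only [hg', LinearEquiv.trans_apply, LinearEquiv.symm_apply_eq]
      exact ⟨by rw [(hfix i hi).1, hTK _ ⟨i, hi, Or.inl rfl⟩], by rw [(hfix i hi).2, hTK _ ⟨i, hi, Or.inr rfl⟩]⟩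
    have hge' : g' (P.e j) = P.e j := by
      simp only [hg', LinearEquiv.trans_apply, LinearEquiv.symm_apply_eq, hTv]
    -- fix f
    let a : V := P.e j + (-(2 * q (P.e j))) • P.f j
    have hap : P.Perp j a := P.perp_add hge.1 (P.perp_smul _ hge.2)
    have hea : QuadraticMap.polar q (P.e j) a = 0 := by
      simp only [a, QuadraticMap.polar_add_right, QuadraticMap.polar_smul_right, P.pol, QuadraticMap.polar_self,
        smul_eq_mul, nsmul_eq_mul, Nat.cast_ofNat]
      ring
    have hfa : IsUnit (QuadraticMap.polar q (P.f j) a) := by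
      have : QuadraticMap.polar q (P.f j) a = -(P.d j : A) := by
        simp only [a, QuadraticMap.polar_add_right, QuadraticMap.polar_smul_right, QuadraticMap.polar_self,
          QuadraticMap.polar_comm q (P.f j) (P.e j), P.pol, smul_eq_mul, nsmul_eq_mul, Nat.cast_ofNat, ← P.disc j]
        ring
      rw [this]; exact (P.d j).isUnit.neg
    have hqa : IsUnit (q a) := by
      have : q a = (P.c j : A) * (P.d j : A) := by
        simp only [a]
        rw [QuadraticMap.map_add q, QuadraticMap.map_smul, QuadraticMap.polar_smul_right, P.pol, ← P.disc j,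
          ← P.qe j, smul_eq_mul, smul_eq_mul]
        ring
      rw [this]; exact (P.c j).isUnit.mul (P.d j).isUnit
    let PF : V → Prop := fun x => K x ∨ x = P.e j
    have e2 := gperp g' hg'O hfix' _ hge.2
    let W2 : Submodule A V := P.perpSub j ⊓ LinearMap.ker (q.polarBilin (P.e j))
    have hd2 : QuadraticMap.polar q (P.e j) (g' (P.f j) - P.f j) = 0 := by
      rw [QuadraticMap.polar_sub_right]
      conv_lhs => arg 1; rw [← hge', hpol g' hg'O]
      rw [sub_self]
    have haW : a ∈ W2 := ⟨hap, hea⟩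
    have hgaW : g' a ∈ W2 := ⟨gperp g' hg'O hfix' _ hap, by
      show QuadraticMap.polar q (P.e j) (g' a) = 0
      rw [← hge', hpol g' hg'O, hea]⟩
    obtain ⟨T2, p2, u2, hT2, hT2O, hT2v, hT2K⟩ := move hA W2 PF
      (fun x hx w hw => hx.elim (fun h => hK x h w hw.1) (fun h => h ▸ hw.2))
      (P.f j) (g' (P.f j))
      ⟨by rw [sub_eq_add_neg, ← neg_one_smul A (P.f j)]; exact P.perp_add e2 (P.perp_smul _ hge.2), hd2⟩
      (hg'O _) a (g' a) a haW hgaW haW hfa (by rw [hpol g' hg'O]; exact hfa) hqa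
    set g'' : V ≃ₗ[A] V := g'.trans T2.symm with hg''
    have hg''O : g'' ∈ QuadGrp.O q := fun x => by
      rw [hg'', LinearEquiv.trans_apply]
      conv_rhs => rw [← hg'O x, ← T2.apply_symm_apply (g' x), hT2O]
    obtain ⟨r', u', hr'⟩ := ih (Nat.le_of_succ_le hr) g'' hg''O fun i hi => by
      simp only [hg'', LinearEquiv.trans_apply, LinearEquiv.symm_apply_eq]
      by_cases hij : (i : ℕ) < j
      · exact ⟨by rw [(hfix' i hij).1, hT2K _ (Or.inl ⟨i, hij, Or.inl rfl⟩)],
          by rw [(hfix' i hij).2, hT2K _ (Or.inl ⟨i, hij, Or.inr rfl⟩)]⟩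
      · obtain rfl : i = j := Fin.ext (by simp only [hj] at hij ⊢; omega)
        exact ⟨by rw [hge', hT2K _ (Or.inr rfl)], hT2v.symm⟩
    refine ⟨p + (p2 + r'), u * (u2 * u'), ?_⟩
    have := hT.mul (hT2.mul hr')
    have e3 : (g''.trans T2).trans T = g := by
      ext x; simp [hg'', hg']
    rwa [e3] at this

end Groth.Agent.Lib.QuadGrp99.Cliff
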