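import Groth.Agent.Lib.QuadGrp99.Cliff.BaseChange
import Groth.Agent.Lib.QuadGrp99.Cliff.Generate
import Mathlib.RingTheory.Flat.FaithfullyFlat.Algebra
import Mathlib.RingTheory.Flat.Localization
import Mathlib.RingTheory.Polynomial.Basic
import Mathlib.LinearAlgebra.Charpoly.BaseChange
import Mathlib.RingTheory.Localization.AtPrime.Basic

/-!
# Descent from a local ring with many units
-/

open CliffordAlgebra TensorProduct

universe u v

namespace Groth.Agent.Lib.QuadGrp99.Cliff

section Parity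

variable {R : Type u} [CommRing R] {M : Type v} [AddCommGroup M] [Module R M] (Q : QuadraticForm R M)

/-- The even projection. -/
noncomputable def P0 : CliffordAlgebra Q →ₗ[R] CliffordAlgebra Q :=
  LinearMap.ofIsCompl (evenOdd_isCompl Q) (evenOdd Q 0).subtype 0

theorem P0_even {x : CliffordAlgebra Q} (hx : x ∈ evenOdd Q 0) : P0 Q x = x :=
  LinearMap.ofIsCompl_left_apply (evenOdd_isCompl Q) (φ := (evenOdd Q 0).subtype) (ψ := 0) ⟨x, hx⟩

theorem P0_odd {x : CliffordAlgebra Q} (hx : x ∈ evenOdd Q 1) : P0 Q x = 0 :=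
  LinearMap.ofIsCompl_right_apply (evenOdd_isCompl Q) (φ := (evenOdd Q 0).subtype) (ψ := 0) ⟨x, hx⟩

theorem split_parity (x : CliffordAlgebra Q) :
    ∃ x0 ∈ evenOdd Q 0, ∃ x1 ∈ evenOdd Q 1, x = x0 + x1 := by
  obtain ⟨a, ha, b, hb, e⟩ := Submodule.mem_sup.mp ((evenOdd_isCompl Q).sup_eq_top.symm ▸ Submodule.mem_top (x := x))
  exact ⟨a, ha, b, hb, e.symm⟩

theorem P0_mem (x : CliffordAlgebra Q) : P0 Q x ∈ evenOdd Q 0 := by
  obtain ⟨a, ha, b, hb, rfl⟩ := split_parity Q x
  rwa [map_add, P0_even Q ha, P0_odd Q hb, add_zero]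

theorem sub_P0_mem (x : CliffordAlgebra Q) : x - P0 Q x ∈ evenOdd Q 1 := by
  obtain ⟨a, ha, b, hb, rfl⟩ := split_parity Q x
  rwa [map_add, P0_even Q ha, P0_odd Q hb, add_zero, add_sub_cancel_left]

theorem mul_mem_even_odd {a b : CliffordAlgebra Q} {i j l : ZMod 2} (h : i + j = l) (ha : a ∈ evenOdd Q i)
    (hb : b ∈ evenOdd Q j) : a * b ∈ evenOdd Q l := h ▸ SetLike.mul_mem_graded ha hb

/-- The parity components of a relation. -/
theorem parity_zero {a b : CliffordAlgebra Q} (ha : a ∈ evenOdd Q 1) (hb : b ∈ evenOdd Q 0) (h : a + b = 0) :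
    a = 0 :=
  Submodule.disjoint_def.mp (evenOdd_isCompl Q).disjoint _ (by
    rw [eq_neg_of_add_eq_zero_left h]; exact neg_mem hb) ha

theorem center_components (x : CliffordAlgebra Q) (h : ∀ v, ι Q v * x = x * ι Q v) :
    (∀ v, ι Q v * P0 Q x = P0 Q x * ι Q v) ∧ ∀ v, ι Q v * (x - P0 Q x) = (x - P0 Q x) * ι Q v := by
  have key : ∀ v, ι Q v * P0 Q x = P0 Q x * ι Q v := fun v => sub_eq_zero.mp (parity_zero Q
    (a := ι Q v * P0 Q x - P0 Q x * ι Q v) (b := ι Q v * (x - P0 Q x) - (x - P0 Q x) * ι Q v)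
    (sub_mem (mul_mem_even_odd Q (by decide) (ι_mem_evenOdd_one Q v) (P0_mem Q x))
      (mul_mem_even_odd Q (by decide) (P0_mem Q x) (ι_mem_evenOdd_one Q v)))
    (sub_mem (mul_mem_even_odd Q (by decide) (ι_mem_evenOdd_one Q v) (sub_P0_mem Q x))
      (mul_mem_even_odd Q (by decide) (sub_P0_mem Q x) (ι_mem_evenOdd_one Q v)))
    (by rw [mul_sub, sub_mul, h]; abel))
  exact ⟨key, fun v => by rw [mul_sub, sub_mul, h, key]⟩

theorem IsSplit.central_scalar [Module.Free R M] [Module.Finite R M] {Q : QuadraticForm R M}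
    {z : CliffordAlgebra Q} (hz : IsSplit Q z) (hQ : QuadGrp.IsRegular Q) (x : CliffordAlgebra Q)
    (h : ∀ v, ι Q v * x = x * ι Q v) : x ∈ Set.range (algebraMap R (CliffordAlgebra Q)) := by
  obtain ⟨h0, h1⟩ := center_components Q x h
  have := hz.odd_central _ (sub_P0_mem Q x) h1
  rw [sub_eq_zero] at this
  rw [this]
  exact even_central hQ _ (P0_mem Q x) h0

theorem isUnit_of_smul_isUnit [Module.Free R M] [Module.Finite R M] (c : R) (x : CliffordAlgebra Q)
    (h : IsUnit (c • x)) : IsUnit c := by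
  obtain ⟨u, hu⟩ := h
  have h1 : c • (x * ↑u⁻¹) = 1 := by rw [← smul_mul_assoc, ← hu, u.mul_inv]
  have h2 := congrArg (fun y => ExteriorAlgebra.algebraMapInv (M := M) (toExt Q y)) h1
  simp only [map_smul, smul_eq_mul] at h2
  rw [show toExt Q 1 = 1 by simp [toExt, changeFormEquiv_apply, changeForm_one]] at h2
  rw [map_one] at h2
  exact IsUnit.of_mul_eq_one _ h2

theorem coeff_of_smul_eq_one [Module.Free R M] [Module.Finite R M] (a b : R) (x y : CliffordAlgebra Q)
    (h : a • x - b • y = 1) : ∃ α β : R, a * α - b * β = 1 := by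
  refine ⟨ExteriorAlgebra.algebraMapInv (M := M) (toExt Q x), ExteriorAlgebra.algebraMapInv (M := M) (toExt Q y), ?_⟩
  have h2 := congrArg (fun y => ExteriorAlgebra.algebraMapInv (M := M) (toExt Q y)) h
  simp only [map_sub, map_smul, smul_eq_mul] at h2
  rwa [show toExt Q 1 = 1 by simp [toExt, changeFormEquiv_apply, changeForm_one], map_one] at h2

end Parity

/-! ### The big local ring -/

section Big

variable (R : Type u) [CommRing R] [IsLocalRing R]

/-- The prime `m R[X]`. -/
noncomputable abbrev bigPrime : Ideal (Polynomial R) := (IsLocalRing.maximalIdeal R).map Polynomial.C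

/-- `R(X)`. -/
noncomputable abbrev Big : Type u := Localization.AtPrime (bigPrime R)

instance : Module.Flat R (Big R) := Module.Flat.trans R (Polynomial R) (Big R)

instance : IsLocalHom (algebraMap R (Big R)) := ⟨fun r hr => by
  rw [IsScalarTower.algebraMap_apply R (Polynomial R) (Big R),
    IsLocalization.AtPrime.isUnit_to_map_iff (Big R) (bigPrime R)] at hr
  by_contra h
  exact hr (Ideal.mem_map_of_mem _ ((IsLocalRing.mem_maximalIdeal r).mpr h))⟩

theorem big_injective : Function.Injective (algebraMap R (Big R)) :=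
  haveI : Module.FaithfullyFlat R (Big R) := Module.FaithfullyFlat.of_flat_of_isLocalHom
  FaithfulSMul.algebraMap_injective R (Big R)

theorem big_infRes : InfRes (Big R) := by
  refine ⟨fun i => algebraMap (Polynomial R) (Big R) (Polynomial.X ^ i), fun i j hij => ?_⟩
  rw [← map_sub, IsLocalization.AtPrime.isUnit_to_map_iff (Big R) (bigPrime R)]
  intro h
  have := (Ideal.mem_map_C_iff.mp h) i
  simp [Polynomial.coeff_X_pow, hij] at this

end Big

/-! ### Descent -/

theorem IsSplit.flip {A : Type u} [CommRing A] {V : Type*} [AddCommGroup V] [Module A V] {q : QuadraticForm A V}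
    {z : CliffordAlgebra q} (h : IsSplit q z) (v : V) : (1 - 2 * z) * ι q v = -(ι q v * (1 - 2 * z)) := by
  calc (1 - 2 * z) * ι q v = ι q v - 2 * (z * ι q v) := by noncomm_ring
    _ = _ := by rw [h.swap]; noncomm_ring

theorem Lifted.conj_even {A : Type u} [CommRing A] {V : Type*} [AddCommGroup V] [Module A V] {q : QuadraticForm A V}
    {g : V ≃ₗ[A] V} {p : ℕ} {u : (CliffordAlgebra q)ˣ} (h : Lifted q g p u) (hp : Even p) (v : V) :
    (u : CliffordAlgebra q) * ι q v = ι q (g v) * u := by
  rw [h.conj, hp.neg_one_pow, one_smul]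

theorem Lifted.conj_odd {A : Type u} [CommRing A] {V : Type*} [AddCommGroup V] [Module A V] {q : QuadraticForm A V}
    {g : V ≃ₗ[A] V} {p : ℕ} {u : (CliffordAlgebra q)ˣ} (h : Lifted q g p u) (hp : Odd p) (v : V) :
    (u : CliffordAlgebra q) * ι q v = -(ι q (g v) * u) := by
  rw [h.conj, hp.neg_one_pow, neg_one_smul]


variable {R : Type u} [CommRing R] {M : Type v} [AddCommGroup M] [Module R M] [Module.Free R M]
  [Module.Finite R M] (A : Type u) [CommRing A] [Algebra R A] (Q : QuadraticForm R M)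

/-- The inverse of `toTensor`. -/
noncomputable def ofTensor : A ⊗[R] CliffordAlgebra Q →ₗ[A] CliffordAlgebra (QA A Q) :=
  LinearMap.liftBaseChange A (toBC A Q).toLinearMap

theorem ofTensor_toTensor (y : CliffordAlgebra (QA A Q)) : ofTensor A Q (toTensor A Q y) = y := by
  induction mem_span_range A Q y using Submodule.span_induction with
  | zero => simp
  | add a b _ _ ha hb => rw [map_add, map_add, ha, hb]
  | smul c a _ ha => rw [map_smul, map_smul, ha]
  | mem a ha =>
    obtain ⟨x, rfl⟩ := ha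
    rw [toTensor_toBC, ofTensor, LinearMap.liftBaseChange_tmul, one_smul]; rfl

omit [Module.Free R M] [Module.Finite R M] in
theorem lTensor_smul' {F G : Type*} [AddCommGroup F] [Module R F] [AddCommGroup G] [Module R G] (φ : F →ₗ[R] G)
    (c : A) (x : A ⊗[R] F) : φ.lTensor A (c • x) = c • φ.lTensor A x := by
  induction x using TensorProduct.induction_on with
  | zero => simp
  | add a b ha hb => simp only [smul_add, map_add, ha, hb]
  | tmul a y => simp [TensorProduct.smul_tmul']

theorem ofTensor_P0 (y : CliffordAlgebra (QA A Q)) :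
    ofTensor A Q ((P0 Q).lTensor A (toTensor A Q y)) = P0 (QA A Q) y := by
  induction mem_span_range A Q y using Submodule.span_induction with
  | zero => simp
  | add a b _ _ ha hb => rw [map_add, map_add, map_add, map_add, ha, hb]
  | smul c a _ ha =>
    rw [map_smul, lTensor_smul', map_smul, ha, map_smul]
  | mem a ha =>
    obtain ⟨x, rfl⟩ := ha
    rw [toTensor_toBC, LinearMap.lTensor_tmul, ofTensor, LinearMap.liftBaseChange_tmul, one_smul]
    show toBC A Q (P0 Q x) = _
    obtain ⟨a, ha, b, hb, rfl⟩ := split_parity Q x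
    rw [map_add, P0_even Q ha, P0_odd Q hb, add_zero, map_add, map_add, P0_even _ (toBC_mem_evenOdd A Q 0 a ha),
      P0_odd _ (toBC_mem_evenOdd A Q 1 b hb), add_zero]

theorem isUnit_of_toBC [IsLocalHom (algebraMap R A)] (k : CliffordAlgebra Q) (h : IsUnit (toBC A Q k)) :
    IsUnit k := by
  obtain ⟨w, hw⟩ := h.map (toTensor A Q)
  rw [toTensor_toBC] at hw
  set L := LinearMap.mulLeft R k with hL
  have e : ∀ x, L.baseChange A x = (w : A ⊗[R] CliffordAlgebra Q) * x := fun x => by
    induction x using TensorProduct.induction_on with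
    | zero => simp
    | add a b ha hb => rw [map_add, mul_add, ha, hb]
    | tmul a c => rw [hw, Algebra.TensorProduct.tmul_mul_tmul, one_mul]; rfl
  have hd : IsUnit (LinearMap.det (L.baseChange A)) := by
    let E : (A ⊗[R] CliffordAlgebra Q) ≃ₗ[A] (A ⊗[R] CliffordAlgebra Q) :=
      LinearEquiv.ofBijective (L.baseChange A) ⟨fun x y h => by
        rw [e, e] at h; exact w.isUnit.mul_left_cancel h, fun y => ⟨(↑w⁻¹ : A ⊗[R] CliffordAlgebra Q) * y, by
        rw [e, ← mul_assoc, w.mul_inv, one_mul]⟩⟩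
    exact E.isUnit_det'
  rw [LinearMap.det_baseChange] at hd
  have hu := isUnit_of_map_unit _ _ hd
  let E := LinearMap.equivOfIsUnitDet hu
  have hE : ∀ x, E x = k * x := fun x => by simp [E, L, LinearMap.equivOfIsUnitDet_apply]
  have hv : k * E.symm 1 = 1 := (hE _).symm.trans (E.apply_symm_apply 1)
  refine ⟨⟨k, E.symm 1, hv, E.injective ?_⟩, rfl⟩
  rw [hE, hE, ← mul_assoc, hv, one_mul, mul_one]

theorem eq_zero_of_proj {n : ℕ} {G : Type*} [AddCommGroup G] [Module R G] (t : A ⊗[R] (Fin n → G))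
    (h : ∀ i, (LinearMap.proj i).lTensor A t = (0 : A ⊗[R] G)) : t = 0 := by
  have e : (∑ i, (LinearMap.single R (fun _ : Fin n => G) i).comp (LinearMap.proj i)) =
      (LinearMap.id : (Fin n → G) →ₗ[R] (Fin n → G)) := by
    apply LinearMap.ext; intro f; funext j; simp [Finset.sum_apply, Pi.single_apply]
  calc t = (LinearMap.id : (Fin n → G) →ₗ[R] (Fin n → G)).lTensor A t := by simp
    _ = 0 := by
      rw [← e, ← LinearMap.coe_lTensorHom, map_sum, LinearMap.sum_apply]
      refine Finset.sum_eq_zero fun i _ => ?_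
      rw [LinearMap.coe_lTensorHom, LinearMap.lTensor_comp, LinearMap.comp_apply, h, map_zero]

/-- A flat descent of a kernel vector with invertible image. -/
theorem descend [IsLocalRing A] [Module.Flat R A] {F G : Type*} [AddCommGroup F] [Module R F] [AddCommGroup G]
    [Module R G] (f : F →ₗ[R] G) (L : F →ₗ[R] CliffordAlgebra (QA A Q)) (t : A ⊗[R] F)
    (ht : f.lTensor A t = 0) (w : CliffordAlgebra (QA A Q)) (hw : IsUnit w)
    (hL : ∀ k ∈ LinearMap.ker f, ∃ c : A, L k = c • w) (hLt : L.liftBaseChange A t = w) :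
    ∃ k ∈ LinearMap.ker f, IsUnit (L k) := by
  by_contra hne
  push Not at hne
  obtain ⟨t', rfl⟩ := (Module.Flat.lTensor_exact A (LinearMap.exact_subtype_ker_map f) t).mp ht
  have key : ∀ t' : A ⊗[R] LinearMap.ker f, ∃ c ∈ IsLocalRing.maximalIdeal A,
      L.liftBaseChange A ((LinearMap.ker f).subtype.lTensor A t') = c • w := by
    intro t'
    induction t' using TensorProduct.induction_on with
    | zero => exact ⟨0, zero_mem _, by simp⟩
    | add a b ha hb =>
      obtain ⟨c, hc, e⟩ := ha; obtain ⟨d, hd, e'⟩ := hb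
      exact ⟨c + d, add_mem hc hd, by rw [map_add, map_add, e, e', add_smul]⟩
    | tmul a k =>
      obtain ⟨c, hc⟩ := hL k k.2
      refine ⟨a * c, Ideal.mul_mem_left _ _ ((IsLocalRing.mem_maximalIdeal _).mpr fun hu => hne k k.2 ?_), ?_⟩
      · rw [hc, Algebra.smul_def]; exact (hu.map _).mul hw
      · rw [LinearMap.lTensor_tmul, LinearMap.liftBaseChange_tmul, Submodule.subtype_apply, hc, smul_smul]
  obtain ⟨c, hc, e⟩ := key t'
  rw [hLt] at e
  have h1 : algebraMap A _ (1 - c) * w = 0 := by rw [← Algebra.smul_def, sub_smul, one_smul, ← e, sub_self]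
  have h2 := (hw.mul_left_eq_zero).mp h1
  rw [← map_zero (algebraMap A (CliffordAlgebra (QA A Q)))] at h2
  have h3 := algebraMap_injective h2
  exact (IsLocalRing.maximalIdeal.isMaximal A).ne_top
    ((Ideal.eq_top_iff_one _).mpr (by rw [sub_eq_zero.mp h3]; exact hc))

theorem ofTensor_comp {F : Type*} [AddCommGroup F] [Module R F] (φ : F →ₗ[R] CliffordAlgebra Q) (x : A ⊗[R] F) :
    ((toBC A Q).toLinearMap.comp φ).liftBaseChange A x = ofTensor A Q (φ.lTensor A x) := by
  induction x using TensorProduct.induction_on with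
  | zero => simp
  | add a b ha hb => simp only [map_add, ha, hb]
  | tmul a y => simp [ofTensor]

theorem toTensor_commutation (ψ : CliffordAlgebra Q →ₗ[R] CliffordAlgebra Q)
    (ψ' : CliffordAlgebra (QA A Q) →ₗ[A] CliffordAlgebra (QA A Q))
    (h : ∀ x, ψ' (toBC A Q x) = toBC A Q (ψ x)) (y : CliffordAlgebra (QA A Q)) :
    ψ.lTensor A (toTensor A Q y) = toTensor A Q (ψ' y) := by
  induction mem_span_range A Q y using Submodule.span_induction with
  | zero => simp
  | add a b _ _ ha hb => simp only [map_add, ha, hb]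
  | smul c a _ ha => rw [map_smul, lTensor_smul', ha, map_smul, map_smul]
  | mem a ha =>
    obtain ⟨x, rfl⟩ := ha
    rw [h, toTensor_toBC, toTensor_toBC, LinearMap.lTensor_tmul]

variable {Q}

/-- The Clifford algebra of the base change. -/
abbrev CA : Type _ := CliffordAlgebra (QA A Q)

/-- Splitting elements exist over every local ring. -/
theorem exists_split_local [IsLocalRing R] (hQ : QuadGrp.IsRegular Q) (m : ℕ) (hM : Module.finrank R M = 2 * m) :
    ∃ z : CliffordAlgebra Q, IsSplit Q z := by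
  set A := Big R
  have hQA := regular_QA A Q hQ
  have hMA : Module.finrank A (A ⊗[R] M) = 2 * m := by rw [Module.finrank_baseChange, hM]
  obtain ⟨z', hz'⟩ := exists_split (big_infRes R) hQA m hMA
  obtain ⟨wu, hwu⟩ := hz'.unit
  set w : CA A (Q := Q) := 1 - 2 * z' with hw
  let b := finBasis' R M
  let eq_i := fun i => LinearMap.mulRight R (ι Q (b i)) + LinearMap.mulLeft R (ι Q (b i))
  let f : CliffordAlgebra Q × R →ₗ[R] (Fin (Fintype.card (Module.Free.ChooseBasisIndex R M)) → CliffordAlgebra Q) :=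
    LinearMap.pi fun i => (eq_i i).comp (LinearMap.fst R _ _) - (LinearMap.snd R _ _).smulRight (ι Q (b i))
  let L : CliffordAlgebra Q × R →ₗ[R] CA A (Q := Q) :=
    (LinearMap.snd R (CliffordAlgebra Q) R).smulRight (1 : CA A (Q := Q)) -
      (2 : R) • ((toBC A Q).toLinearMap.comp ((P0 Q).comp (LinearMap.fst R _ _)))
  let t : A ⊗[R] (CliffordAlgebra Q × R) :=
    (LinearMap.inl R (CliffordAlgebra Q) R).lTensor A (toTensor A Q z') + (1 : A) ⊗ₜ[R] ((0 : CliffordAlgebra Q), (1 : R))
  have ht : f.lTensor A t = 0 := by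
    refine eq_zero_of_proj A _ fun i => ?_
    rw [← LinearMap.lTensor_comp_apply, map_add, LinearMap.lTensor_tmul, ← LinearMap.lTensor_comp_apply]
    have e1 : ((LinearMap.proj i).comp f).comp (LinearMap.inl R (CliffordAlgebra Q) R) = eq_i i := by
      ext x; simp [f]
    rw [e1, toTensor_commutation A Q (eq_i i)
      (LinearMap.mulRight A (toBC A Q (ι Q (b i))) + LinearMap.mulLeft A (toBC A Q (ι Q (b i))))
      (fun x => by simp [eq_i]) z']
    have e2 : ((LinearMap.proj i).comp f) ((0 : CliffordAlgebra Q), (1 : R)) = -ι Q (b i) := by simp [f]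
    rw [e2, TensorProduct.tmul_neg, ← toTensor_toBC A Q, ← sub_eq_add_neg, ← map_sub]
    have : (LinearMap.mulRight A (toBC A Q (ι Q (b i))) + LinearMap.mulLeft A (toBC A Q (ι Q (b i)))) z' -
        toBC A Q (ι Q (b i)) = 0 := by
      rw [LinearMap.add_apply, LinearMap.mulRight_apply, LinearMap.mulLeft_apply, toBC_ι, hz'.swap, mul_sub,
        mul_one, sub_add_cancel, sub_self]
    rw [this, map_zero]
  have hLk : ∀ k ∈ LinearMap.ker f, (∀ v, P0 Q k.1 * ι Q v + ι Q v * P0 Q k.1 = k.2 • ι Q v) ∧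
      ∃ c : A, L k = c • w := by
    intro k hk
    have hb : ∀ i, P0 Q k.1 * ι Q (b i) + ι Q (b i) * P0 Q k.1 = k.2 • ι Q (b i) := fun i => by
      have h0 : k.1 * ι Q (b i) + ι Q (b i) * k.1 - k.2 • ι Q (b i) = 0 := congrFun (LinearMap.mem_ker.mp hk) i
      refine sub_eq_zero.mp (parity_zero Q
        (b := (k.1 - P0 Q k.1) * ι Q (b i) + ι Q (b i) * (k.1 - P0 Q k.1))
        (sub_mem (add_mem (mul_mem_even_odd Q (by decide) (P0_mem Q _) (ι_mem_evenOdd_one Q _))
          (mul_mem_even_odd Q (by decide) (ι_mem_evenOdd_one Q _) (P0_mem Q _)))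
          (Submodule.smul_mem _ _ (ι_mem_evenOdd_one Q _)))
        (add_mem (mul_mem_even_odd Q (by decide) (sub_P0_mem Q _) (ι_mem_evenOdd_one Q _))
          (mul_mem_even_odd Q (by decide) (ι_mem_evenOdd_one Q _) (sub_P0_mem Q _))) ?_)
      rw [← h0]; simp only [sub_mul, mul_sub]; abel
    have hv : ∀ v, P0 Q k.1 * ι Q v + ι Q v * P0 Q k.1 = k.2 • ι Q v := fun v => by
      rw [← b.sum_repr v, map_sum, Finset.mul_sum, Finset.sum_mul, ← Finset.sum_add_distrib, Finset.smul_sum]
      refine Finset.sum_congr rfl fun i _ => ?_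
      rw [map_smul, mul_smul_comm, smul_mul_assoc, ← smul_add, hb, smul_comm]
    refine ⟨hv, ?_⟩
    set y := toBC A Q (P0 Q k.1) with hy
    set s := algebraMap R A k.2
    have hL' : L k = algebraMap A _ s - 2 * y := by
      simp only [L, LinearMap.sub_apply, LinearMap.smulRight_apply, LinearMap.smul_apply, LinearMap.comp_apply,
        LinearMap.fst_apply, LinearMap.snd_apply, AlgHom.toLinearMap_apply, ← hy, s]
      rw [Algebra.smul_def, Algebra.smul_def, map_ofNat, mul_one, ← IsScalarTower.algebraMap_apply]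
    have hLe : L k ∈ evenOdd (QA A Q) 0 := by
      rw [hL', two_mul]
      exact sub_mem (SetLike.algebraMap_mem_graded _ _)
        (add_mem (toBC_mem_evenOdd A Q 0 _ (P0_mem Q _)) (toBC_mem_evenOdd A Q 0 _ (P0_mem Q _)))
    have hy' : ∀ p, y * ι (QA A Q) p + ι (QA A Q) p * y = s • ι (QA A Q) p := fun p => by
      induction p using TensorProduct.induction_on with
      | zero => simp
      | add p r hp hr => rw [map_add, mul_add, add_mul, smul_add, ← hp, ← hr]; abel
      | tmul a v =>
        rw [ι_tmul, mul_smul_comm, smul_mul_assoc, ← smul_add, smul_comm s a, hy, ← map_mul, ← map_mul, ← map_add,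
          hv, map_smul]
        congr 1
    have hanti : ∀ p, ι (QA A Q) p * L k = -(L k * ι (QA A Q) p) := fun p => by
      rw [hL', eq_neg_iff_add_eq_zero, mul_sub, sub_mul, ← Algebra.commutes s]
      calc algebraMap A _ s * ι (QA A Q) p - ι (QA A Q) p * (2 * y) +
            (algebraMap A _ s * ι (QA A Q) p - 2 * y * ι (QA A Q) p)
          = 2 * (algebraMap A _ s * ι (QA A Q) p) - 2 * (y * ι (QA A Q) p + ι (QA A Q) p * y) := by noncomm_ring
        _ = 0 := by rw [hy', Algebra.smul_def, sub_self]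
    -- `L k * w` commutes with the vectors
    have hwanti : ∀ p, ι (QA A Q) p * w = -(w * ι (QA A Q) p) := fun p => by
      rw [hw]
      calc ι (QA A Q) p * (1 - 2 * z') = ι (QA A Q) p - 2 * (ι (QA A Q) p * z') := by noncomm_ring
        _ = _ := by rw [hz'.swap']; noncomm_ring
    have hwe : w ∈ evenOdd (QA A Q) 0 := by
      rw [hw, two_mul]; exact sub_mem (SetLike.one_mem_graded _) (add_mem hz'.even hz'.even)
    obtain ⟨c, hc⟩ := even_central hQA (L k * w) (mul_mem_even_odd _ (by decide) hLe hwe) fun p => by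
      rw [← mul_assoc, hanti, neg_mul, mul_assoc, hwanti, mul_neg, neg_neg, mul_assoc]
    obtain ⟨d, hd⟩ := even_central hQA (w * w) (mul_mem_even_odd _ (by decide) hwe hwe) fun p => by
      rw [← mul_assoc, hwanti, neg_mul, mul_assoc, hwanti, mul_neg, neg_neg, mul_assoc]
    have hdu : IsUnit (algebraMap A (CA A (Q := Q)) d) := by rw [hd]; exact hz'.unit.mul hz'.unit
    rw [Algebra.algebraMap_eq_smul_one] at hdu
    obtain ⟨du, hdu'⟩ := isUnit_of_smul_isUnit _ d _ hdu
    refine ⟨c * ↑du⁻¹, ?_⟩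
    calc L k = L k * w * (w * algebraMap A _ (↑du⁻¹ : A)) := by
          rw [mul_assoc, ← mul_assoc w w, ← hd, ← map_mul, ← hdu', du.mul_inv, map_one, mul_one]
      _ = (c * ↑du⁻¹) • w := by
          rw [← hc, ← Algebra.commutes (↑du⁻¹ : A) w, ← mul_assoc, ← map_mul, ← Algebra.smul_def]
  have hLt : L.liftBaseChange A t = w := by
    simp only [t, map_add, LinearMap.liftBaseChange_tmul, one_smul]
    have e1 : L ((0 : CliffordAlgebra Q), (1 : R)) = 1 := by simp [L]
    have e2 : ∀ x : A ⊗[R] CliffordAlgebra Q, L.liftBaseChange A ((LinearMap.inl R (CliffordAlgebra Q) R).lTensor A x) =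
        -(2 * ofTensor A Q ((P0 Q).lTensor A x)) := fun x => by
      induction x using TensorProduct.induction_on with
      | zero => simp
      | add a c ha hc => simp only [map_add, mul_add, neg_add, ha, hc]
      | tmul a c => simp [L, ofTensor, two_smul, two_mul]
    rw [e2, ofTensor_P0, P0_even _ hz'.even, e1, hw]; abel
  obtain ⟨k₁, hk₁, hu₁⟩ := descend A Q f L t ht w hz'.unit (fun k hk => (hLk k hk).2) hLt
  have final : ∀ k, k ∈ LinearMap.ker f → IsUnit (L k) → IsUnit k.2 → ∃ z : CliffordAlgebra Q, IsSplit Q z := by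
    intro k hk hu hs
    obtain ⟨c, hc⟩ := hs
    refine ⟨(↑c⁻¹ : R) • P0 Q k.1, Submodule.smul_mem _ _ (P0_mem Q _), fun v => ?_, isUnit_of_toBC A Q _ ?_⟩
    · have := congrArg (fun x => (↑c⁻¹ : R) • x) ((hLk k hk).1 v)
      simp only [smul_add, smul_smul, ← hc, c.inv_mul, one_smul] at this
      rw [mul_sub, mul_one, mul_smul_comm, smul_mul_assoc]
      exact eq_sub_of_add_eq this
    · have : toBC A Q (1 - 2 * ((↑c⁻¹ : R) • P0 Q k.1)) = (↑c⁻¹ : R) • L k := by
        simp only [L, LinearMap.sub_apply, LinearMap.smulRight_apply, LinearMap.smul_apply, LinearMap.comp_apply,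
          LinearMap.fst_apply, LinearMap.snd_apply, AlgHom.toLinearMap_apply]
        rw [smul_sub, smul_smul, ← hc, c.inv_mul, one_smul, map_sub, map_one, map_mul, map_ofNat, map_smul, smul_comm,
          two_smul, two_mul]
      rw [this, Algebra.smul_def]
      exact ((c⁻¹).isUnit.map _).mul hu
  by_cases h2 : IsUnit (2 : R)
  · obtain ⟨c, hc⟩ := h2
    let k₀ : CliffordAlgebra Q × R := ((↑c⁻¹ : R) • 1, 1)
    have hk₀ : k₀ ∈ LinearMap.ker f := by
      rw [LinearMap.mem_ker]
      funext i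
      simp only [f, eq_i, k₀, LinearMap.pi_apply, LinearMap.sub_apply, LinearMap.comp_apply, LinearMap.fst_apply,
        LinearMap.snd_apply, LinearMap.smulRight_apply, LinearMap.add_apply, LinearMap.mulRight_apply,
        LinearMap.mulLeft_apply, one_smul, smul_mul_assoc, one_mul, mul_smul_comm, mul_one, ← add_smul,
        Pi.zero_apply]
      rw [← two_mul, ← hc, c.mul_inv, one_smul, sub_self]
    have hL0 : L k₀ = 0 := by
      simp only [L, k₀, LinearMap.sub_apply, LinearMap.smulRight_apply, LinearMap.smul_apply, LinearMap.comp_apply,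
        LinearMap.fst_apply, LinearMap.snd_apply, AlgHom.toLinearMap_apply, one_smul]
      rw [map_smul, map_smul, P0_even Q (SetLike.one_mem_graded _), map_one, smul_smul, ← hc, c.mul_inv, one_smul,
        sub_self]
    refine final (k₁ + (1 - k₁.2) • k₀) (add_mem hk₁ (Submodule.smul_mem _ _ hk₀)) ?_ ?_
    · rw [map_add, map_smul, hL0, smul_zero, add_zero]; exact hu₁
    · simp [k₀]
  · refine final k₁ hk₁ hu₁ ?_
    by_contra hs
    obtain ⟨c, hc⟩ := (hLk k₁ hk₁).2
    -- the image would lie in the maximal ideal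
    have : L k₁ = algebraMap R A k₁.2 • (1 : CA A (Q := Q)) -
        algebraMap R A 2 • toBC A Q (P0 Q k₁.1) := by
      simp [L, algebraMap_smul]
    obtain ⟨u, hu⟩ := hu₁
    have h1 : algebraMap R A k₁.2 • (↑u⁻¹ : CA A (Q := Q)) -
        algebraMap R A 2 • (toBC A Q (P0 Q k₁.1) * ↑u⁻¹) = 1 := by
      rw [← smul_mul_assoc, ← one_mul (↑u⁻¹ : CA A (Q := Q)), ← smul_mul_assoc, one_mul, ← sub_mul,
        ← this, ← hu, u.mul_inv]
    obtain ⟨α, β, h3⟩ := coeff_of_smul_eq_one (R := A) (M := A ⊗[R] M) (QA A Q) (algebraMap R A k₁.2) (algebraMap R A 2)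
      (↑u⁻¹ : CA A (Q := Q)) (toBC A Q (P0 Q k₁.1) * (↑u⁻¹ : CA A (Q := Q))) h1
    have nm : ∀ r : R, ¬ IsUnit r → algebraMap R A r ∈ IsLocalRing.maximalIdeal A := fun r hr =>
      (IsLocalRing.mem_maximalIdeal _).mpr fun h => hr (isUnit_of_map_unit _ _ h)
    exact (IsLocalRing.maximalIdeal.isMaximal A).ne_top ((Ideal.eq_top_iff_one _).mpr
      (h3 ▸ sub_mem (Ideal.mul_mem_right _ _ (nm _ hs)) (Ideal.mul_mem_right _ _ (nm _ h2))))

theorem toBC_conj (g : M ≃ₗ[R] M) (x : CliffordAlgebra Q) (h : ∀ v, x * ι Q v = ι Q (g v) * x) (p : A ⊗[R] M) :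
    toBC A Q x * ι (QA A Q) p = ι (QA A Q) (g.baseChange R A M M p) * toBC A Q x := by
  induction p using TensorProduct.induction_on with
  | zero => simp
  | add a b ha hb => simp only [map_add, mul_add, add_mul, ha, hb]
  | tmul a v =>
    rw [LinearEquiv.baseChange_tmul, ι_tmul, ι_tmul, mul_smul_comm, smul_mul_assoc, ← map_mul, ← map_mul, h]

/-- Every isometry is conjugation by a homogeneous unit over a local ring; Dickson-trivial ones by an even one. -/
theorem exists_lift_local [IsLocalRing R] (hQ : QuadGrp.IsRegular Q) (m : ℕ) (hM : Module.finrank R M = 2 * m)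
    (g : M ≃ₗ[R] M) (hg : g ∈ QuadGrp.O Q) :
    ∃ (p : ℕ) (u : (CliffordAlgebra Q)ˣ), (u : CliffordAlgebra Q) ∈ evenOdd Q (p : ZMod 2) ∧
      (∀ v, (u : CliffordAlgebra Q) * ι Q v * ↑u⁻¹ = ι Q (g v)) ∧
      LinearMap.det g.toLinearMap = (-1) ^ p ∧
      (Even p → QuadGrp.IsDicksonTrivial Q g hg) ∧
      (Odd p → ∀ z, IsSplit Q z → CliffordAlgebra.map (QuadGrp.isometryOfMem Q g hg) z = 1 - z) := by
  set A := Big R
  have hQA := regular_QA A Q hQ
  have hMA : Module.finrank A (A ⊗[R] M) = 2 * m := by rw [Module.finrank_baseChange, hM]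
  have hgA := baseChange_mem_O A Q g hg
  obtain ⟨p, u₀, hu₀⟩ := exists_lifted (big_infRes R) hQA m hMA _ hgA
  obtain ⟨z', hz'⟩ := exists_split (big_infRes R) hQA m hMA
  have hinj := toBC_injective A Q (big_injective R)
  -- correct the sign by the element anticommuting with vectors
  obtain ⟨u', hu'p, hu'⟩ : ∃ u' : (CA A (Q := Q))ˣ, (u' : CA A (Q := Q)) ∈ evenOdd (QA A Q) (p : ZMod 2) ∧
      ∀ v, (u' : CA A (Q := Q)) * ι (QA A Q) v = ι (QA A Q) (g.baseChange R A M M v) * (u' : CA A (Q := Q)) := by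
    rcases Nat.even_or_odd p with hp | hp
    · exact ⟨u₀, hu₀.mem, hu₀.conj_even hp⟩
    · obtain ⟨wu, hwu⟩ := hz'.unit
      refine ⟨wu * u₀, ?_, fun v => ?_⟩
      · rw [Units.val_mul, hwu, two_mul]
        exact mul_mem_even_odd _ (zero_add _) (sub_mem (SetLike.one_mem_graded _) (add_mem hz'.even hz'.even)) hu₀.mem
      · rw [Units.val_mul, mul_assoc, hu₀.conj_odd hp, mul_neg, ← mul_assoc, hwu, hz'.flip, neg_mul, neg_neg, mul_assoc]
  let b := finBasis' R M
  let f : CliffordAlgebra Q →ₗ[R] (Fin (Fintype.card (Module.Free.ChooseBasisIndex R M)) → CliffordAlgebra Q) :=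
    LinearMap.pi fun i => LinearMap.mulRight R (ι Q (b i)) - LinearMap.mulLeft R (ι Q (g (b i)))
  have hker : ∀ k ∈ LinearMap.ker f, ∀ v, k * ι Q v = ι Q (g v) * k := fun k hk v => by
    rw [← b.sum_repr v, map_sum, map_sum, map_sum, Finset.mul_sum, Finset.sum_mul]
    refine Finset.sum_congr rfl fun i _ => ?_
    rw [map_smul, map_smul, map_smul, mul_smul_comm, smul_mul_assoc]
    have := congrFun (LinearMap.mem_ker.mp hk) i
    simp only [f, LinearMap.pi_apply, LinearMap.sub_apply, LinearMap.mulRight_apply, LinearMap.mulLeft_apply,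
      Pi.zero_apply] at this
    rw [sub_eq_zero.mp this]
  have ht : f.lTensor A (toTensor A Q u') = 0 := by
    refine eq_zero_of_proj A _ fun i => ?_
    rw [← LinearMap.lTensor_comp_apply,
      show (LinearMap.proj i).comp f = LinearMap.mulRight R (ι Q (b i)) - LinearMap.mulLeft R (ι Q (g (b i))) from rfl,
      toTensor_commutation A Q _
        (LinearMap.mulRight A (toBC A Q (ι Q (b i))) - LinearMap.mulLeft A (toBC A Q (ι Q (g (b i)))))
        (fun x => by simp)]
    rw [LinearMap.sub_apply, LinearMap.mulRight_apply, LinearMap.mulLeft_apply, toBC_ι, toBC_ι, hu',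
      LinearEquiv.baseChange_tmul, sub_self, map_zero]
  have hmult : ∀ k ∈ LinearMap.ker f, ∃ c : A, toBC A Q k = c • (u' : CA A (Q := Q)) := fun k hk => by
    have hk' := toBC_conj A g k (hker k hk)
    obtain ⟨c, hc⟩ := hz'.central_scalar hQA (↑u'⁻¹ * toBC A Q k) fun v => by
      rw [mul_assoc, hk', ← mul_assoc, ← mul_assoc]
      congr 1
      refine u'.isUnit.mul_left_cancel ?_
      rw [← mul_assoc, ← mul_assoc, hu', mul_assoc, u'.mul_inv, mul_one, one_mul]
    refine ⟨c, ?_⟩
    rw [Algebra.smul_def, Algebra.commutes, hc, ← mul_assoc, u'.mul_inv, one_mul]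
  obtain ⟨k, hk, hku⟩ := descend A Q f (toBC A Q).toLinearMap (toTensor A Q u') ht u' u'.isUnit hmult
    (ofTensor_toTensor A Q u')
  obtain ⟨u, rfl⟩ := isUnit_of_toBC A Q k hku
  obtain ⟨c, hc⟩ := hmult _ hk
  refine ⟨p, u, ?_, fun v => by rw [hker _ hk v, mul_assoc, u.mul_inv, mul_one], ?_, fun hp z hz => ?_, fun hp z hz => ?_⟩
  · have hm : toBC A Q u ∈ evenOdd (QA A Q) (p : ZMod 2) := by
      rw [show toBC A Q u = c • (u' : CA A (Q := Q)) from hc]; exact Submodule.smul_mem _ _ hu'p
    obtain ⟨a, ha, d, hd, e⟩ := split_parity Q (u : CliffordAlgebra Q)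
    rw [e, map_add] at hm
    have ha' := toBC_mem_evenOdd A Q 0 a ha
    have hd' := toBC_mem_evenOdd A Q 1 d hd
    rcases Nat.even_or_odd p with hp | hp
    · rw [(ZMod.natCast_eq_zero_iff_even).mpr hp] at hm ⊢
      have : d = 0 := hinj (by
        rw [map_zero]
        exact Submodule.disjoint_def.mp (evenOdd_isCompl _).disjoint _ (by simpa using sub_mem hm ha') hd')
      rw [e, this, add_zero]; exact ha
    · rw [(ZMod.natCast_eq_one_iff_odd).mpr hp] at hm ⊢
      have : a = 0 := hinj (by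
        rw [map_zero]
        exact Submodule.disjoint_def.mp (evenOdd_isCompl _).disjoint _ ha' (by simpa using sub_mem hm hd'))
      rw [e, this, zero_add]; exact hd
  · refine big_injective R ?_
    rw [← LinearMap.det_baseChange, map_pow, map_neg, map_one]
    exact hu₀.det
  · refine hinj ?_
    rw [toBC_map A Q g hg]
    refine hu₀.map_split_even hp hgA _ (toBC_mem_evenOdd A Q 0 _ z.2) (toBC_commute_even A Q _ fun y hy => ?_)
    exact (congrArg Subtype.val ((Subalgebra.mem_center_iff (R := R)).1 hz ⟨y, hy⟩)).symm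
  · refine hinj ?_
    rw [toBC_map A Q g hg, map_sub, map_one]
    refine hu₀.map_split_odd hp hgA (z := toBC A Q z) ⟨toBC_mem_evenOdd A Q 0 _ hz.even, fun q => ?_, ?_⟩
    · induction q using TensorProduct.induction_on with
      | zero => simp
      | add q r hq hr => simp only [map_add, mul_add, add_mul, hq, hr]
      | tmul a v =>
        rw [ι_tmul, mul_smul_comm, smul_mul_assoc, ← map_mul, hz.swap, map_mul, map_sub, map_one]
    · have := hz.unit.map (toBC A Q)
      rwa [map_sub, map_one, map_mul, map_ofNat] at this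

end Groth.Agent.Lib.QuadGrp99.Cliff
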