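import Groth.Agent.Lib.QuadGrp99.SplitEven
import Groth.Agent.Lib.QuadGrp99.SO.Even
import Groth.Agent.Lib.QuadGrp99.Cliff.Odd.EvenPart

/-!
# The Clifford algebra of a regular form of even rank
-/

noncomputable section

open CliffordAlgebra
open scoped Matrix TensorProduct

universe u

namespace Groth.Agent.Lib.QuadGrp99.Cliff.EvenFppf

open Groth.Agent.Lib.QuadGrp99 Groth.Agent.Lib.QuadGrp99.Cliff Groth.Agent.Lib.QuadGrp99.Cliff.Odd

section Spinor

variable (R : Type u) [CommRing R] (m : ℕ)

theorem contract_parity (d : Module.Dual R (Fin m → R)) (x : Spin₀ R m) :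
    (x ∈ evenOdd (0 : QuadraticForm R (Fin m → R)) 0 →
      contractLeft d x ∈ evenOdd (0 : QuadraticForm R (Fin m → R)) 1) ∧
    (x ∈ evenOdd (0 : QuadraticForm R (Fin m → R)) 1 →
      contractLeft d x ∈ evenOdd (0 : QuadraticForm R (Fin m → R)) 0) := by
  constructor
  · intro hx
    induction x, hx using CliffordAlgebra.even_induction with
    | algebraMap r => rw [contractLeft_algebraMap]; exact zero_mem _
    | add a b _ _ ha hb => rw [map_add]; exact add_mem ha hb
    | ι_mul_ι_mul a b y hy ih =>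
      rw [mul_assoc, contractLeft_ι_mul, contractLeft_ι_mul]
      refine sub_mem (Submodule.smul_mem _ _ (mul_mem_even_odd _ (by decide) (ι_mem_evenOdd_one _ _) hy))
        (mul_mem_even_odd _ (by decide : (1 : ZMod 2) + 0 = 1) (ι_mem_evenOdd_one _ _) ?_)
      exact sub_mem (Submodule.smul_mem _ _ hy) (mul_mem_even_odd _ (by decide) (ι_mem_evenOdd_one _ _) ih)
  · intro hx
    induction x, hx using CliffordAlgebra.odd_induction with
    | ι v => rw [contractLeft_ι]; exact SetLike.algebraMap_mem_graded _ _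
    | add a b _ _ ha hb => rw [map_add]; exact add_mem ha hb
    | ι_mul_ι_mul a b y hy ih =>
      rw [mul_assoc, contractLeft_ι_mul, contractLeft_ι_mul]
      refine sub_mem (Submodule.smul_mem _ _ (mul_mem_even_odd _ (by decide) (ι_mem_evenOdd_one _ _) hy))
        (mul_mem_even_odd _ (by decide : (1 : ZMod 2) + 1 = 0) (ι_mem_evenOdd_one _ _) ?_)
      exact sub_mem (Submodule.smul_mem _ _ hy) (mul_mem_even_odd _ (by decide) (ι_mem_evenOdd_one _ _) ih)

/-- The parity operator. -/
def Pi0 : Module.End R (Spin₀ R m) := P0 (0 : QuadraticForm R (Fin m → R))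

theorem act_parity (v : (Fin m → R) × (Fin m → R)) : Pi0 R m * act R m v = act R m v * (1 - Pi0 R m) := by
  refine LinearMap.ext fun x => ?_
  simp only [Pi0, Module.End.mul_apply, LinearMap.sub_apply, Module.End.one_apply]
  obtain ⟨a, ha, b, hb, rfl⟩ := split_parity (0 : QuadraticForm R (Fin m → R)) x
  have h1 : ∀ y ∈ evenOdd (0 : QuadraticForm R (Fin m → R)) 0,
      act R m v y ∈ evenOdd (0 : QuadraticForm R (Fin m → R)) 1 := fun y hy => by
    rw [act_apply]
    exact add_mem (neg_mem (mul_mem_even_odd _ (by decide) (ι_mem_evenOdd_one _ _) hy))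
      ((contract_parity R m _ y).1 hy)
  have h2 : ∀ y ∈ evenOdd (0 : QuadraticForm R (Fin m → R)) 1,
      act R m v y ∈ evenOdd (0 : QuadraticForm R (Fin m → R)) 0 := fun y hy => by
    rw [act_apply]
    exact add_mem (neg_mem (mul_mem_even_odd _ (by decide) (ι_mem_evenOdd_one _ _) hy))
      ((contract_parity R m _ y).2 hy)
  simp only [map_add, P0_even _ ha, P0_odd _ hb, P0_odd _ (h1 a ha), P0_even _ (h2 b hb), zero_add, add_zero,
    add_sub_cancel_left]

theorem Pi0_sq : Pi0 R m * Pi0 R m = Pi0 R m :=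
  LinearMap.ext fun x => P0_even _ (P0_mem _ x)

theorem spinor_parity (x : CliffordAlgebra (qh R m)) :
    (x ∈ evenOdd (qh R m) 0 → Pi0 R m * spinor R m x = spinor R m x * Pi0 R m) ∧
      (x ∈ evenOdd (qh R m) 1 → Pi0 R m * spinor R m x = spinor R m x * (1 - Pi0 R m)) := by
  have key : ∀ v, Pi0 R m * spinor R m (ι _ v) = spinor R m (ι _ v) * (1 - Pi0 R m) := fun v => by
    rw [spinor_ι]; exact act_parity R m v
  have key' : ∀ v, (1 - Pi0 R m) * spinor R m (ι _ v) = spinor R m (ι _ v) * Pi0 R m := fun v => by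
    rw [sub_mul, one_mul, key, mul_sub, mul_one, sub_sub_cancel]
  constructor
  · intro hx
    induction x, hx using CliffordAlgebra.even_induction with
    | algebraMap r => rw [AlgHom.commutes]; exact (Algebra.commutes r _).symm
    | add a b _ _ ha hb => rw [map_add, mul_add, add_mul, ha, hb]
    | ι_mul_ι_mul a b y _ ih =>
      rw [map_mul, map_mul, ← mul_assoc, ← mul_assoc, key, mul_assoc (spinor R m (ι _ a)), key', ← mul_assoc,
        mul_assoc _ (Pi0 R m), ih, ← mul_assoc]
  · intro hx
    induction x, hx using CliffordAlgebra.odd_induction with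
    | ι v => exact key v
    | add a b _ _ ha hb => rw [map_add, mul_add, add_mul, ha, hb]
    | ι_mul_ι_mul a b y _ ih =>
      rw [map_mul, map_mul, ← mul_assoc, ← mul_assoc, key, mul_assoc (spinor R m (ι _ a)), key', ← mul_assoc,
        mul_assoc _ (Pi0 R m), ih, ← mul_assoc]

/-- The basis of the spinors. -/
def bS : Module.Basis (Finset (Fin m)) R (Spin₀ R m) := (Pi.basisFun R (Fin m)).ExteriorAlgebra

theorem Pi0_bS (s : Finset (Fin m)) : Pi0 R m (bS R m s) = (if Even s.card then (1 : R) else 0) • bS R m s := by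
  have hmem : bS R m s ∈ evenOdd (0 : QuadraticForm R (Fin m → R)) (s.card : ZMod 2) := by
    rw [bS, ExteriorAlgebra.basis_apply_ofCard (Pi.basisFun R (Fin m)) (s := s) rfl, ExteriorAlgebra.ιMulti_family,
      ExteriorAlgebra.ιMulti_apply]
    have h := SetLike.list_prod_ofFn_mem_graded (A := evenOdd (0 : QuadraticForm R (Fin m → R)))
      (fun _ : Fin s.card => (1 : ZMod 2))
      (fun i => ι (0 : QuadraticForm R (Fin m → R)) ((Pi.basisFun R (Fin m) ∘ Set.powersetCard.ofFinEmbEquiv.symm
        (Set.powersetCard.ofCard rfl : Set.powersetCard (Fin m) s.card)) i))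
      (fun i => ι_mem_evenOdd_one _ _)
    simpa using h
  rcases Nat.even_or_odd s.card with hs | hs
  · rw [(ZMod.natCast_eq_zero_iff_even).2 hs] at hmem
    rw [if_pos hs, one_smul]
    exact P0_even _ hmem
  · rw [(ZMod.natCast_eq_one_iff_odd).2 hs] at hmem
    rw [if_neg (Nat.not_even_iff_odd.2 hs), zero_smul]
    exact P0_odd _ hmem

theorem spinor_bijective : Function.Bijective (spinor R m) := by
  classical
  let bV : Module.Basis (Fin (m + m)) R ((Fin m → R) × (Fin m → R)) :=
    ((Pi.basisFun R (Fin m)).prod (Pi.basisFun R (Fin m))).reindex finSumFinEquiv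
  haveI := Module.Free.of_basis bV
  haveI := Module.Finite.of_basis bV
  let bC := bV.ExteriorAlgebra.map (toExt (qh R m)).symm
  let T := ((Matrix.stdBasis R (Finset (Fin m)) (Finset (Fin m))).map (algEquivMatrix (bS R m)).symm.toLinearEquiv)
  have hcard : Fintype.card (Finset (Fin m) × Finset (Fin m)) = Fintype.card (Finset (Fin (m + m))) := by
    simp [pow_add]
  let e : Module.End R (Spin₀ R m) ≃ₗ[R] CliffordAlgebra (qh R m) := T.equiv bC (Fintype.equivOfCardEq hcard)
  haveI : Module.Finite R (Module.End R (Spin₀ R m)) := Module.Finite.of_basis T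
  have hsurj : Function.Surjective (spinor R m) := fun f => mul_proj'_mem R m f
  refine ⟨fun x y hxy => ?_, hsurj⟩
  have := OrzechProperty.injective_of_surjective_endomorphism (R := R)
    ((spinor R m).toLinearMap.comp e.toLinearMap) (hsurj.comp e.surjective)
  obtain ⟨x', rfl⟩ := e.surjective x
  obtain ⟨y', rfl⟩ := e.surjective y
  exact congrArg e (this hxy)

/-- Block diagonal matrices. -/
def blockHom {ι' κ' : Type*} [Fintype ι'] [Fintype κ'] [DecidableEq ι'] [DecidableEq κ'] :
    Matrix ι' ι' R × Matrix κ' κ' R →ₐ[R] Matrix (ι' ⊕ κ') (ι' ⊕ κ') R where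
  toFun p := Matrix.fromBlocks p.1 0 0 p.2
  map_one' := Matrix.fromBlocks_one
  map_zero' := Matrix.fromBlocks_zero
  map_add' p q := by simp [Matrix.fromBlocks_add]
  map_mul' p q := by simp [Matrix.fromBlocks_multiply]
  commutes' r := by
    ext (i | i) (j | j) <;> simp [Matrix.algebraMap_matrix_apply, Matrix.fromBlocks]

set_option maxHeartbeats 1000000 in
/-- The even Clifford algebra of the hyperbolic form. -/
theorem exists_even_qh (hm : 1 ≤ m) : Nonempty (↥(CliffordAlgebra.even (qh R m)) ≃ₐ[R]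
    (Matrix (Fin (2 ^ (m - 1))) (Fin (2 ^ (m - 1))) R × Matrix (Fin (2 ^ (m - 1))) (Fin (2 ^ (m - 1))) R)) := by
  classical
  let p : Finset (Fin m) → Prop := fun s => Even s.card
  let tog : Finset (Fin m) → Finset (Fin m) := fun s => symmDiff s {⟨0, by omega⟩}
  have htog : ∀ s, p (tog s) ↔ ¬ p s := fun s => by
    by_cases h : (⟨0, by omega⟩ : Fin m) ∈ s
    · have e : tog s = s.erase ⟨0, by omega⟩ := by ext x; simp [tog, Finset.mem_symmDiff] <;> grind
      have h1 : 0 < s.card := Finset.card_pos.2 ⟨_, h⟩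
      simp only [p, e, Finset.card_erase_of_mem h, Nat.even_iff]
      omega
    · have e : tog s = insert ⟨0, by omega⟩ s := by ext x; simp [tog, Finset.mem_symmDiff] <;> grind
      simp only [p, e, Finset.card_insert_of_notMem h, Nat.even_iff]
      omega
  have htt : ∀ s, tog (tog s) = s := fun s => by ext x; simp [tog, Finset.mem_symmDiff] <;> grind
  let σ : {s // p s} ≃ {s // ¬ p s} :=
    { toFun := fun s => ⟨tog s.1, fun h => (htog s.1).1 h s.2⟩
      invFun := fun s => ⟨tog s.1, (htog s.1).2 s.2⟩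
      left_inv := fun s => Subtype.ext (htt _)
      right_inv := fun s => Subtype.ext (htt _) }
  have hc1 : Fintype.card {s // p s} = Fintype.card {s // ¬ p s} := Fintype.card_congr σ
  have hc2 : Fintype.card {s // p s} + Fintype.card {s // ¬ p s} = 2 * 2 ^ (m - 1) := by
    rw [← Fintype.card_sum, Fintype.card_congr (Equiv.sumCompl p), Fintype.card_finset, Fintype.card_fin, ← pow_succ']
    congr 1
    omega
  let e1 : Fin (2 ^ (m - 1)) ≃ {s // p s} := (Fintype.equivFinOfCardEq (by omega)).symm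
  let e2 : Fin (2 ^ (m - 1)) ≃ {s // ¬ p s} := (Fintype.equivFinOfCardEq (by omega)).symm
  let er : (Fin (2 ^ (m - 1)) ⊕ Fin (2 ^ (m - 1))) ≃ Finset (Fin m) := (Equiv.sumCongr e1 e2).trans (Equiv.sumCompl p)
  have her : ∀ x, p (er x) ↔ x.isLeft := by
    rintro (i | i)
    · simp [er, (e1 i).2]
    · simp [er, (e2 i).2]
  let T : CliffordAlgebra (qh R m) ≃ₐ[R] Matrix (Fin (2 ^ (m - 1)) ⊕ Fin (2 ^ (m - 1))) (Fin (2 ^ (m - 1)) ⊕ Fin (2 ^ (m - 1))) R :=
    (AlgEquiv.ofBijective (spinor R m) (spinor_bijective R m)).trans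
      ((LinearMap.toMatrixAlgEquiv (bS R m)).trans (Matrix.reindexAlgEquiv R R er.symm))
  have hT : ∀ x i j, T x i j = (bS R m).repr (spinor R m x (bS R m (er j))) (er i) := fun x i j => by
    simp [T, LinearMap.toMatrixAlgEquiv_apply]
  have hP : ∀ x i j, (bS R m).repr ((Pi0 R m * spinor R m x) (bS R m (er j))) (er i) =
        (if p (er i) then (1 : R) else 0) * T x i j ∧
      (bS R m).repr ((spinor R m x * Pi0 R m) (bS R m (er j))) (er i) =
        (if p (er j) then (1 : R) else 0) * T x i j := fun x i j => by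
    rw [hT]
    constructor
    · rw [Module.End.mul_apply]
      generalize spinor R m x (bS R m (er j)) = w
      conv_lhs => rw [← (bS R m).sum_repr w, map_sum]
      simp only [map_smul, Pi0_bS, map_sum, Finsupp.coe_finsetSum, Finset.sum_apply, Finsupp.smul_apply,
        Module.Basis.repr_self, Finsupp.single_apply, smul_eq_mul, mul_ite, mul_one, mul_zero,
        Finset.sum_ite_eq', Finset.mem_univ, if_true]
      split_ifs with h <;> simp [p] at h ⊢ <;> simp [h]
    · rw [Module.End.mul_apply, Pi0_bS, map_smul, map_smul, Finsupp.smul_apply, smul_eq_mul]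
  have hiff : ∀ x, x ∈ evenOdd (qh R m) 0 ↔ ∀ i j, i.isLeft ≠ j.isLeft → T x i j = 0 := by
    intro x
    constructor
    · intro hx i j hij
      obtain ⟨h1, h2⟩ := hP x i j
      rw [(spinor_parity R m x).1 hx, h2] at h1
      simp only [her] at h1
      cases i <;> cases j <;> simp at hij h1 ⊢ <;> simp [h1]
    · intro hb
      set x1 := x - P0 (qh R m) x with hx1
      have hcomm : Pi0 R m * spinor R m x = spinor R m x * Pi0 R m := by
        refine (bS R m).ext fun s => (bS R m).ext_elem fun t => ?_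
        obtain ⟨j, rfl⟩ := er.surjective s
        obtain ⟨i, rfl⟩ := er.surjective t
        obtain ⟨h1, h2⟩ := hP x i j
        rw [h1, h2]
        by_cases hij : i.isLeft = j.isLeft
        · simp only [her, hij]
        · rw [hb i j hij, mul_zero, mul_zero]
      have hc1 : Pi0 R m * spinor R m x1 = spinor R m x1 * Pi0 R m := by
        rw [hx1, map_sub, mul_sub, sub_mul, hcomm, (spinor_parity R m _).1 (P0_mem _ x)]
      have hc2 := (spinor_parity R m x1).2 (sub_P0_mem _ x)
      have h0 : spinor R m x1 * (1 - Pi0 R m - Pi0 R m) = 0 := by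
        rw [mul_sub, ← hc1, hc2, sub_self]
      have hsq : (1 - Pi0 R m - Pi0 R m) * (1 - Pi0 R m - Pi0 R m) = 1 := by
        simp only [sub_mul, mul_sub, one_mul, mul_one, Pi0_sq]
        abel
      have h1 : spinor R m x1 = 0 := by
        have := congrArg (· * (1 - Pi0 R m - Pi0 R m)) h0
        simpa [mul_assoc, hsq] using this
      have := (spinor_bijective R m).1 (h1.trans (map_zero _).symm)
      rw [hx1, sub_eq_zero] at this
      rw [this]
      exact P0_mem _ _
  let φ := T.symm.toAlgHom.comp (blockHom R (ι' := Fin (2 ^ (m - 1))) (κ' := Fin (2 ^ (m - 1))))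
  have hmem : ∀ q, φ q ∈ CliffordAlgebra.even (qh R m) := fun q => (hiff _).2 fun i j hij => by
    show T (T.symm (blockHom R q)) i j = 0
    rw [AlgEquiv.apply_symm_apply]
    cases i <;> cases j <;> simp at hij ⊢ <;> rfl
  refine ⟨(AlgEquiv.ofBijective (φ.codRestrict _ hmem) ⟨fun q q' h => ?_, fun y => ?_⟩).symm⟩
  · have h' : blockHom R q = blockHom R q' := T.symm.injective (congrArg Subtype.val h)
    refine Prod.ext ?_ ?_
    · have := congrArg Matrix.toBlocks₁₁ h'; exact this
    · have := congrArg Matrix.toBlocks₂₂ h'; exact this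
  · refine ⟨((T y.1).toBlocks₁₁, (T y.1).toBlocks₂₂), Subtype.ext (T.injective ?_)⟩
    show T (T.symm (blockHom R _)) = T y.1
    rw [AlgEquiv.apply_symm_apply]
    conv_rhs => rw [← Matrix.fromBlocks_toBlocks (T y.1)]
    have e12 : (T y.1).toBlocks₁₂ = 0 := by ext i j; exact (hiff _).1 y.2 (Sum.inl i) (Sum.inr j) (by simp)
    have e21 : (T y.1).toBlocks₂₁ = 0 := by ext i j; exact (hiff _).1 y.2 (Sum.inr i) (Sum.inl j) (by simp)
    rw [e12, e21]
    rfl

end Spinor

variable {A : Type u} [CommRing A] {V : Type u} [AddCommGroup V] [Module A V] [Module.Free A V] [Module.Finite A V]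
  {m : ℕ} {Q : QuadraticForm A V} (hQ : QuadGrp.IsRegular Q) (hV : Module.finrank A V = 2 * m)

include hQ hV in
theorem exists_split_isometry [Nontrivial A] : ∃ (A' : Type u) (_ : CommRing A') (_ : Algebra A A'),
    Module.FaithfullyFlat A A' ∧ Algebra.FinitePresentation A A' ∧ Nonempty ((QA A' Q).IsometryEquiv (qh A' m)) := by
  classical
  let b := Module.finBasisOfFinrankEq A V hV
  obtain ⟨B, hB⟩ := HalfDisc.exists_bilin b Q
  set U := LinearMap.toMatrix₂ b b B
  have hqf : ∀ v, Q v = SplitEven.qf U (b.equivFun v) := fun v => by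
    have h := QuadGrp99.OrthSmooth.ext_coeffs b (Q₁ := Q) (Q₂ := (SplitEven.qf U).comp b.equivFun.toLinearMap) (by
      rw [HalfDisc.coeffs_eq b Q hB, HalfDisc.coeffs_eq b _ (B := (Matrix.toLinearMap₂' A U).compl₁₂
        b.equivFun.toLinearMap b.equivFun.toLinearMap) fun x => rfl]
      congr 1
      ext i j
      simp [U, LinearMap.toMatrix₂_apply, Matrix.toLinearMap₂'_apply', Finsupp.single_eq_pi_single])
    exact congrArg (fun q => q v) h
  have hP : IsUnit (U + Uᵀ).det := by
    refine (Matrix.isUnit_iff_isUnit_det _).1 (Matrix.mulVec_surjective_iff_isUnit.1 fun y => ?_)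
    obtain ⟨x, hx⟩ := hQ.2 (∑ i, y i • b.coord i)
    refine ⟨b.equivFun x, funext fun i => ?_⟩
    have h1 := LinearMap.congr_fun hx (b i)
    rw [QuadraticMap.polarBilin_apply_apply, QuadraticMap.polar, hqf, hqf, hqf, map_add, ← QuadraticMap.polar,
      QuadraticMap.polar_comm, SplitEven.polar_qf, Module.Basis.equivFun_apply (b := b) (u := b i),
      Module.Basis.repr_self] at h1
    simp [Finsupp.single_apply, dotProduct] at h1
    exact h1
  obtain ⟨A', i1, i2, hff, hfp, g, hg, hgq⟩ := SplitEven.exists_fppf U hP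
  let bB := b.baseChange A'
  let U' := U.map (algebraMap A A')
  have hQA : ∀ v, QA A' Q v = SplitEven.qf U' (bB.equivFun v) := fun v => by
    have h1 : ∀ w : V, bB.equivFun ((1 : A') ⊗ₜ[A] w) = fun i => algebraMap A A' (b.equivFun w i) := fun w => by
      funext i
      simp [bB, Module.Basis.equivFun_apply, Algebra.algebraMap_eq_smul_one]
    have h2 : ∀ w : V, QA A' Q ((1 : A') ⊗ₜ[A] w) = SplitEven.qf U' (bB.equivFun ((1 : A') ⊗ₜ[A] w)) := fun w => by
      rw [QA_one_tmul, h1, hqf, SplitEven.qf_apply, SplitEven.qf_apply, RingHom.map_dotProduct]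
      congr 1
      funext i
      exact RingHom.map_mulVec _ _ _ i
    have h := QuadGrp99.OrthSmooth.ext_coeffs bB (Q₁ := QA A' Q)
      (Q₂ := (SplitEven.qf U').comp bB.equivFun.toLinearMap) (funext fun s => by
      induction s using Sym2.ind with
      | h i j =>
        simp only [QuadGrp.coeffs_mk, LinearEquiv.refl_apply, bB, Module.Basis.baseChange_apply]
        split_ifs
        · exact h2 _
        · simp only [QuadraticMap.polar, ← TensorProduct.tmul_add, h2]
          rfl)
    exact congrArg (fun q => q v) h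
  let gu := Matrix.nonsingInvUnit g hg
  let L : (Fin (2 * m) → A') ≃ₗ[A'] (Fin (2 * m) → A') :=
    LinearEquiv.ofLinearMap (Matrix.toLin' g) (Matrix.toLin' g⁻¹)
      (by rw [← Matrix.toLin'_mul, Matrix.mul_nonsing_inv _ hg, Matrix.toLin'_one])
      (by rw [← Matrix.toLin'_mul, Matrix.nonsing_inv_mul _ hg, Matrix.toLin'_one])
  let ψ : (Fin (2 * m) → A') ≃ₗ[A'] (Fin m → A') × (Fin m → A') :=
    { toFun := fun x => (fun j => -x ⟨j, by omega⟩, fun j => x ⟨m + j, by omega⟩)
      map_add' := fun x y => by ext j <;> simp [add_comm]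
      map_smul' := fun c x => by ext j <;> simp
      invFun := fun v k => if h : (k : ℕ) < m then -v.1 ⟨k, h⟩ else v.2 ⟨(k : ℕ) - m, by omega⟩
      left_inv := fun x => funext fun k => by
        dsimp only
        split_ifs with h
        · simp
        · exact congrArg x (Fin.ext (by simp; omega))
      right_inv := fun v => by
        ext j
        · simp
        · have : ¬ m + (j : ℕ) < m := by omega
          simp [this] }
  refine ⟨A', i1, i2, hff, hfp, ⟨⟨(bB.equivFun.trans L.symm).trans ψ, fun v => ?_⟩⟩⟩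
  show qh A' m (ψ (L.symm (bB.equivFun v))) = QA A' Q v
  obtain ⟨x, hx⟩ : ∃ x, bB.equivFun v = g *ᵥ x := ⟨L.symm (bB.equivFun v), by
    rw [← Matrix.toLin'_apply g]; exact (L.apply_symm_apply _).symm⟩
  rw [hQA, hx, show L.symm (g *ᵥ x) = x by rw [LinearEquiv.symm_apply_eq]; rfl, SplitEven.qf_apply,
    ← SplitEven.transpose_mul_dot, (SplitEven.qf_eq_iff _ _).2 hgq x, SplitEven.splitMat_dot, qh_apply,
    ← Finset.sum_neg_distrib]
  exact Finset.sum_congr rfl fun j _ => by simp [ψ]

include hQ hV in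
theorem exists_fppf_matrix (hm : 1 ≤ m) : ∃ (A' : Type u) (_ : CommRing A') (_ : Algebra A A'),
    Module.FaithfullyFlat A A' ∧ Algebra.FinitePresentation A A' ∧
    Nonempty ((A' ⊗[A] CliffordAlgebra Q) ≃ₐ[A'] Matrix (Fin (2 ^ m)) (Fin (2 ^ m)) A') ∧
    Nonempty ((A' ⊗[A] ↥(CliffordAlgebra.even Q)) ≃ₐ[A']
      (Matrix (Fin (2 ^ (m - 1))) (Fin (2 ^ (m - 1))) A' × Matrix (Fin (2 ^ (m - 1))) (Fin (2 ^ (m - 1))) A')) := by
  rcases subsingleton_or_nontrivial A with hA | hA
  · haveI h1 : Subsingleton (A ⊗[A] CliffordAlgebra Q) := Module.subsingleton A _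
    haveI h2 : Subsingleton (A ⊗[A] ↥(CliffordAlgebra.even Q)) := Module.subsingleton A _
    refine ⟨A, inferInstance, inferInstance, inferInstance, inferInstance,
      ⟨AlgEquiv.ofBijective (Algebra.TensorProduct.lift (Algebra.ofId A _)
        { toFun := fun _ => 0, map_one' := Subsingleton.elim _ _, map_zero' := rfl, map_add' := fun _ _ => by simp,
          map_mul' := fun _ _ => by simp, commutes' := fun _ => Subsingleton.elim _ _ } fun _ _ => Commute.zero_right _)
        ⟨fun x y _ => Subsingleton.elim x y, fun x => ⟨0, Subsingleton.elim _ _⟩⟩⟩,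
      ⟨AlgEquiv.ofBijective (Algebra.TensorProduct.lift (Algebra.ofId A _)
        { toFun := fun _ => 0, map_one' := Subsingleton.elim _ _, map_zero' := rfl, map_add' := fun _ _ => by simp,
          map_mul' := fun _ _ => by simp, commutes' := fun _ => Subsingleton.elim _ _ } fun _ _ => Commute.zero_right _)
        ⟨fun x y _ => Subsingleton.elim x y, fun x => ⟨0, Subsingleton.elim _ _⟩⟩⟩⟩
  obtain ⟨A', i1, i2, hff, hfp, ⟨es⟩⟩ := exists_split_isometry hQ hV
  obtain ⟨f1⟩ := exists_spinor A' m
  obtain ⟨f2⟩ := exists_even_qh A' m hm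
  obtain ⟨g1⟩ := exists_evenBC A' Q
  obtain ⟨g2⟩ := exists_evenEquiv es
  exact ⟨A', i1, i2, hff, hfp,
    ⟨((AlgEquiv.ofBijective (Group.ofTensorAlg Q A') (Group.tEquiv Q A').symm.bijective).trans
      (CliffordAlgebra.equivOfIsometry es)).trans f1⟩, ⟨(g1.trans g2).trans f2⟩⟩

theorem odd_rel {y : CliffordAlgebra Q} {s : A} (hrel : ∀ v, y * ι Q v + ι Q v * y = s • ι Q v)
    (x : CliffordAlgebra Q) (hx : x ∈ evenOdd Q 1) : y * x + x * y = s • x := by
  induction x, hx using CliffordAlgebra.odd_induction with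
  | ι v => exact hrel v
  | add a b _ _ ha hb => rw [mul_add, add_mul, smul_add, ← ha, ← hb]; abel
  | ι_mul_ι_mul a b x _ ih =>
    have hc := spread_central hrel (ι Q a * ι Q b) (ι_mul_ι_mem_evenOdd_zero Q a b)
    rw [← mul_assoc, hc, mul_assoc, mul_assoc _ x, ← mul_add, ih, mul_smul_comm]

include hQ hV in
theorem center_and_centralizer (hm : 1 ≤ m) :
    Subalgebra.center A (CliffordAlgebra Q) = ⊥ ∧
    Subalgebra.centralizer A
        ((CliffordAlgebra.even Q).val '' (Subalgebra.center A ↥(CliffordAlgebra.even Q) : Set ↥(CliffordAlgebra.even Q))) =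
      CliffordAlgebra.even Q := by
  rcases subsingleton_or_nontrivial A with hA | hA
  · haveI := Module.subsingleton A (CliffordAlgebra Q)
    exact ⟨Subsingleton.elim _ _, SetLike.ext fun x => iff_of_true
      (Subalgebra.mem_centralizer_iff A |>.2 fun _ _ => Subsingleton.elim _ _)
      (by rw [Subsingleton.elim x 0]; exact zero_mem _)⟩
  obtain ⟨C⟩ := SO.nonempty_cover hQ m hV
  refine ⟨eq_bot_iff.2 fun x hx => ?_, SetLike.ext fun x => ⟨fun hx => ?_, fun hx => ?_⟩⟩
  · obtain ⟨a, rfl⟩ := center_eq_scalar hQ m hV x fun v => Subalgebra.mem_center_iff.1 hx _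
    exact Subalgebra.algebraMap_mem _ a
  · rw [Subalgebra.mem_centralizer_iff] at hx
    set x1 := x - P0 Q x with hx1
    have hkill : ∀ h ∈ C.T, h • x1 = 0 := fun h hh => by
      have hy := hx _ ⟨⟨C.y h, (C.good h hh).even⟩, Subalgebra.mem_center_iff.mpr fun z =>
        Subtype.ext (spread_central (C.good h hh).rel _ z.2).symm, rfl⟩
      have h1 : C.y h * x1 = x1 * C.y h := by
        rw [hx1, mul_sub, sub_mul, spread_central (C.good h hh).rel _ (P0_mem Q x)]
        exact congrArg (· - _) hy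
      have h2 := odd_rel (C.good h hh).rel x1 (sub_P0_mem Q x)
      rw [← h1] at h2
      have h3 : (algebraMap A (CliffordAlgebra Q) (C.s h) - 2 * C.y h) * x1 = 0 := by
        rw [sub_mul, ← Algebra.smul_def, ← h2, two_mul, add_mul, sub_self]
      have h4 := congrArg ((algebraMap A (CliffordAlgebra Q) (C.s h) - 2 * C.y h) * ·) h3
      simp only [mul_zero, ← mul_assoc, (C.good h hh).sq, ← Algebra.smul_def] at h4
      rw [C.eq h hh, mul_smul, h4, smul_zero]
    have h0 : x1 = 0 := by
      have hle : Ideal.span (C.T : Set A) ≤ (⊥ : Submodule A (CliffordAlgebra Q)).colon {x1} :=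
        Ideal.span_le.2 fun h hh => Submodule.mem_colon_singleton.2 (by rw [hkill h hh]; exact zero_mem _)
      have h1 := Submodule.mem_colon_singleton.1 (hle (C.top ▸ Submodule.mem_top : (1 : A) ∈ Ideal.span (C.T : Set A)))
      rwa [one_smul, Submodule.mem_bot] at h1
    rw [hx1, sub_eq_zero] at h0
    rw [h0]
    exact P0_mem Q _
  · rw [Subalgebra.mem_centralizer_iff]
    rintro _ ⟨z, hz, rfl⟩
    exact (congrArg Subtype.val (Subalgebra.mem_center_iff.1 hz ⟨x, hx⟩)).symm

theorem isCompl_ι : Function.Injective (ι Q) ∧ ∃ W, IsCompl (LinearMap.range (ι Q)) W := by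
  let ρ : CliffordAlgebra Q →ₗ[A] V := (ExteriorAlgebra.ιInv (R := A) (M := V)).comp (toExt Q).toLinearMap
  have hρ : ∀ v, ρ (ι Q v) = v := fun v => by
    simp only [ρ, LinearMap.comp_apply, LinearEquiv.coe_coe, toExt, changeFormEquiv_apply, changeForm_ι]
    exact ExteriorAlgebra.ι_leftInverse (R := A) (M := V) v
  refine ⟨Function.LeftInverse.injective hρ, LinearMap.ker ρ, ⟨?_, ?_⟩⟩
  · rw [Submodule.disjoint_def]
    rintro _ ⟨v, rfl⟩ hv
    rw [LinearMap.mem_ker, hρ] at hv
    rw [hv, map_zero]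
  · rw [codisjoint_iff, Submodule.eq_top_iff']
    intro x
    refine Submodule.mem_sup.2 ⟨ι Q (ρ x), ⟨_, rfl⟩, x - ι Q (ρ x), ?_, add_sub_cancel _ _⟩
    rw [LinearMap.mem_ker, map_sub, hρ, sub_self]

end Groth.Agent.Lib.QuadGrp99.Cliff.EvenFppf
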