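import Groth.Agent.Lib.QuadGrp99.Cliff.Local
import Mathlib.RingTheory.LocalProperties.Basic
import Mathlib.RingTheory.Spectrum.Prime.Topology

/-!
# Dickson dichotomy: localisation and spreading out
-/

open CliffordAlgebra TensorProduct

universe u v

namespace Groth.Agent.Lib.QuadGrp99.Cliff

variable {R : Type u} [CommRing R] {M : Type v} [AddCommGroup M] [Module R M] [Module.Free R M]
  [Module.Finite R M] {Q : QuadraticForm R M}

theorem isUnit_of_sq_scalar (x : CliffordAlgebra Q) (d : R) (hd : IsUnit d)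
    (h : x * x = algebraMap R (CliffordAlgebra Q) d) : IsUnit x :=
  ((Commute.refl x).isUnit_mul_iff.mp (by rw [h]; exact hd.map _)).1

theorem IsSplit.mem_center {z : CliffordAlgebra Q} (hz : IsSplit Q z) :
    (⟨z, hz.even⟩ : CliffordAlgebra.even Q) ∈ Subalgebra.center R (CliffordAlgebra.even Q) :=
  Subalgebra.mem_center_iff.mpr fun y => Subtype.ext (hz.commute_even _ y.2).symm

/-- Over a local ring: determinant and Dickson condition agree. -/
theorem dichotomy [IsLocalRing R] (hQ : QuadGrp.IsRegular Q) (m : ℕ) (hM : Module.finrank R M = 2 * m)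
    (g : M ≃ₗ[R] M) (hg : g ∈ QuadGrp.O Q) :
    (LinearMap.det g.toLinearMap = 1 ∧ QuadGrp.IsDicksonTrivial Q g hg) ∨
      (LinearMap.det g.toLinearMap = -1 ∧ ¬ QuadGrp.IsDicksonTrivial Q g hg ∧
        ∀ z, IsSplit Q z → CliffordAlgebra.map (QuadGrp.isometryOfMem Q g hg) z = 1 - z) := by
  obtain ⟨p, u, -, -, hdet, he, ho⟩ := exists_lift_local hQ m hM g hg
  rcases Nat.even_or_odd p with hp | hp
  · exact Or.inl ⟨by rw [hdet, hp.neg_one_pow], he hp⟩
  · obtain ⟨z, hz⟩ := exists_split_local hQ m hM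
    exact Or.inr ⟨by rw [hdet, hp.neg_one_pow],
      fun ht => hz.one_sub_ne ((ho hp z hz).symm.trans (ht ⟨z, hz.even⟩ hz.mem_center)), ho hp⟩

theorem trivial_iff_fix [IsLocalRing R] (hQ : QuadGrp.IsRegular Q) (m : ℕ) (hM : Module.finrank R M = 2 * m)
    (g : M ≃ₗ[R] M) (hg : g ∈ QuadGrp.O Q) {z : CliffordAlgebra Q} (hz : IsSplit Q z) :
    QuadGrp.IsDicksonTrivial Q g hg ↔ CliffordAlgebra.map (QuadGrp.isometryOfMem Q g hg) z = z := by
  refine ⟨fun h => h ⟨z, hz.even⟩ hz.mem_center, fun h => ?_⟩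
  rcases dichotomy hQ m hM g hg with ⟨-, h2⟩ | ⟨-, -, h3⟩
  · exact h2
  · exact absurd ((h3 z hz).symm.trans h) hz.one_sub_ne

variable (Q) in
theorem toBC_P0 (A : Type u) [CommRing A] [Algebra R A] (x : CliffordAlgebra Q) :
    toBC A Q (P0 Q x) = P0 (QA A Q) (toBC A Q x) := by
  obtain ⟨a, ha, b, hb, rfl⟩ := split_parity Q x
  rw [map_add, P0_even Q ha, P0_odd Q hb, add_zero, map_add, map_add, P0_even _ (toBC_mem_evenOdd A Q 0 a ha),
    P0_odd _ (toBC_mem_evenOdd A Q 1 b hb), add_zero]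

theorem eq_zero_of_local (x : CliffordAlgebra Q)
    (h : ∀ (P : Ideal R) [P.IsMaximal], toBC (Localization.AtPrime P) Q x = 0) : x = 0 :=
  (Module.Free.chooseBasis R (CliffordAlgebra Q)).forall_coord_eq_zero_iff.mp fun i =>
    eq_zero_of_localization _ fun P hP => (toBC_eq_zero_iff _ Q x).mp (h P) i

variable (P : Ideal R) [P.IsPrime]

local notation "A_P" => Localization.AtPrime P

theorem finrank_loc (m : ℕ) (hM : Module.finrank R M = 2 * m) :
    Module.finrank A_P (A_P ⊗[R] M) = 2 * m := by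
  haveI : Nontrivial R := ⟨⟨0, 1, fun e => P.one_notMem (e ▸ P.zero_mem)⟩⟩
  rw [Module.finrank_baseChange, hM]

theorem exists_kill (x : CliffordAlgebra Q) (h : toBC A_P Q x = 0) : ∃ f ∉ P, f • x = 0 := by
  classical
  have h1 := (toBC_eq_zero_iff _ Q x).mp h
  choose f hf using fun i => (IsLocalization.map_eq_zero_iff P.primeCompl A_P _).mp (h1 i)
  refine ⟨∏ i, (f i : R), ?_, (Module.Free.chooseBasis R (CliffordAlgebra Q)).forall_coord_eq_zero_iff.mp fun i => ?_⟩
  · rw [Ideal.IsPrime.prod_mem_iff]; rintro ⟨i, -, hi⟩; exact (f i).2 hi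
  · rw [map_smul, Module.Basis.coord_apply, smul_eq_mul, ← Finset.mul_prod_erase _ _ (Finset.mem_univ i),
      mul_right_comm, hf, zero_mul]

/-- A splitting element over a neighbourhood. -/
theorem spread (hQ : QuadGrp.IsRegular Q) (m : ℕ) (hM : Module.finrank R M = 2 * m) :
    ∃ (y : CliffordAlgebra Q) (s h : R), h ∉ P ∧ y ∈ evenOdd Q 0 ∧
      (∀ v, y * ι Q v + ι Q v * y = s • ι Q v) ∧
      ∀ (P' : Ideal R) [P'.IsPrime], h ∉ P' → ∃ z : CliffordAlgebra (QA (Localization.AtPrime P') Q),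
        IsSplit (QA (Localization.AtPrime P') Q) z ∧
        ∃ a : (Localization.AtPrime P')ˣ, (a : Localization.AtPrime P') = algebraMap R _ s ∧
          z = (↑a⁻¹ : Localization.AtPrime P') • toBC (Localization.AtPrime P') Q y := by
  classical
  obtain ⟨z, hz⟩ := exists_split_local (regular_QA A_P Q hQ) m (finrank_loc P m hM)
  have hspan : ∀ w ∈ Submodule.span A_P (Set.range (toBC A_P Q)),
      ∃ s ∉ P, ∃ y, algebraMap R A_P s • w = toBC A_P Q y := by
    intro w hw
    induction hw using Submodule.span_induction with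
    | mem a ha => obtain ⟨x, rfl⟩ := ha; exact ⟨1, P.one_notMem, x, by simp⟩
    | zero => exact ⟨1, P.one_notMem, 0, by simp⟩
    | add a b _ _ ha hb =>
      obtain ⟨s, hs, x, hx⟩ := ha; obtain ⟨t, ht, y, hy⟩ := hb
      refine ⟨s * t, fun h => (Ideal.IsPrime.mem_or_mem ‹P.IsPrime› h).elim hs ht, t • x + s • y, ?_⟩
      rw [map_add, map_smul, map_smul, ← hx, ← hy, map_mul, smul_add, ← algebraMap_smul A_P t,
        ← algebraMap_smul A_P s, smul_smul, smul_smul, mul_comm (algebraMap R A_P t)]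
    | smul c a _ ha =>
      obtain ⟨s, hs, x, hx⟩ := ha
      obtain ⟨⟨r, t⟩, hrt⟩ := IsLocalization.surj P.primeCompl c
      refine ⟨t * s, fun h => (Ideal.IsPrime.mem_or_mem ‹P.IsPrime› h).elim t.2 hs, r • x, ?_⟩
      rw [map_smul, ← hx, ← algebraMap_smul A_P r, ← hrt, map_mul, smul_smul, smul_smul]
      ring_nf
  obtain ⟨s₀, hs₀, y₁, hy₁⟩ := hspan z (mem_span_range A_P Q z)
  set y₀ := P0 Q y₁ with hy₀
  have hy₀' : toBC A_P Q y₀ = algebraMap R A_P s₀ • z := by
    rw [hy₀, toBC_P0, ← hy₁, map_smul, P0_even _ hz.even]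
  let b := finBasis' R M
  have hE : ∀ i, ∃ f ∉ P, f • (y₀ * ι Q (b i) + ι Q (b i) * y₀ - s₀ • ι Q (b i)) = 0 := fun i => by
    refine exists_kill P _ ?_
    rw [map_sub, map_add, map_mul, map_mul, map_smul, hy₀', toBC_ι, smul_mul_assoc, mul_smul_comm, ← smul_add,
      hz.swap, mul_sub, mul_one, sub_add_cancel, ← algebraMap_smul A_P s₀, sub_self]
  choose f hf hf0 using hE
  set F := ∏ i, f i with hF
  have hFP : F ∉ P := by
    rw [hF, Ideal.IsPrime.prod_mem_iff]; rintro ⟨i, -, hi⟩; exact hf i hi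
  set y := F • y₀ with hy
  set s := F * s₀ with hs
  have hrel : ∀ v, y * ι Q v + ι Q v * y = s • ι Q v := fun v => by
    have hb : ∀ i, y * ι Q (b i) + ι Q (b i) * y = s • ι Q (b i) := fun i => by
      have e : F • (y₀ * ι Q (b i) + ι Q (b i) * y₀ - s₀ • ι Q (b i)) = 0 := by
        rw [hF, ← Finset.prod_erase_mul _ _ (Finset.mem_univ i), mul_smul, hf0, smul_zero]
      rw [hy, hs, smul_mul_assoc, mul_smul_comm, ← smul_add, mul_smul]
      exact sub_eq_zero.mp (by rw [← smul_sub, e])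
    rw [← b.sum_repr v, map_sum, Finset.mul_sum, Finset.sum_mul, ← Finset.sum_add_distrib, Finset.smul_sum]
    refine Finset.sum_congr rfl fun i _ => ?_
    rw [map_smul, mul_smul_comm (b.repr v i), smul_mul_assoc (b.repr v i), ← smul_add, hb, smul_comm]
  have hye : y ∈ evenOdd Q 0 := Submodule.smul_mem _ _ (P0_mem Q _)
  set w := algebraMap R (CliffordAlgebra Q) s - 2 * y with hw
  have hanti : ∀ v, ι Q v * w = -(w * ι Q v) := fun v => by
    rw [hw, eq_neg_iff_add_eq_zero, mul_sub, sub_mul, ← Algebra.commutes s]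
    calc algebraMap R _ s * ι Q v - ι Q v * (2 * y) + (algebraMap R _ s * ι Q v - 2 * y * ι Q v)
        = 2 * (algebraMap R _ s * ι Q v) - 2 * (y * ι Q v + ι Q v * y) := by noncomm_ring
      _ = 0 := by rw [hrel, Algebra.smul_def, sub_self]
  have hwe : w ∈ evenOdd Q 0 := by
    rw [hw, two_mul]; exact sub_mem (SetLike.algebraMap_mem_graded _ _) (add_mem hye hye)
  obtain ⟨d, hd⟩ := even_central hQ (w * w) (mul_mem_even_odd Q (by decide) hwe hwe) fun v => by
    rw [← mul_assoc, hanti, neg_mul, mul_assoc, hanti, mul_neg, neg_neg, mul_assoc]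
  have hsP : s ∉ P := fun h => (Ideal.IsPrime.mem_or_mem ‹P.IsPrime› h).elim hFP hs₀
  have hdP : d ∉ P := by
    have hwA : toBC A_P Q w = algebraMap R A_P s • (1 - 2 * z) := by
      rw [hw, map_sub, map_mul (toBC A_P Q) 2 y, map_ofNat, AlgHom.commutes, hy, map_smul, hy₀', ← algebraMap_smul A_P F, smul_smul,
        ← map_mul, smul_sub, mul_smul_comm, IsScalarTower.algebraMap_apply R A_P (CliffordAlgebra (QA A_P Q)),
        ← Algebra.algebraMap_eq_smul_one]
    have hu : IsUnit (toBC A_P Q w * toBC A_P Q w) := by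
      have h1 : IsUnit (algebraMap R A_P s) :=
        (IsLocalization.AtPrime.isUnit_to_map_iff A_P P s).mpr hsP
      have : IsUnit (toBC A_P Q w) := by
        rw [hwA, Algebra.smul_def]; exact (h1.map _).mul hz.unit
      exact this.mul this
    rw [← map_mul, ← hd, AlgHom.commutes, IsScalarTower.algebraMap_apply R A_P (CliffordAlgebra (QA A_P Q)),
      Algebra.algebraMap_eq_smul_one] at hu
    exact (IsLocalization.AtPrime.isUnit_to_map_iff A_P P d).mp (isUnit_of_smul_isUnit _ _ _ hu)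
  refine ⟨y, s, s * d, fun h => (Ideal.IsPrime.mem_or_mem ‹P.IsPrime› h).elim hsP hdP, hye, hrel, fun P' _ hP' => ?_⟩
  let A' := Localization.AtPrime P'
  have hsu : IsUnit (algebraMap R A' s) :=
    (IsLocalization.AtPrime.isUnit_to_map_iff A' P' s).mpr fun h => hP' (P'.mul_mem_right _ h)
  have hdu : IsUnit (algebraMap R A' d) :=
    (IsLocalization.AtPrime.isUnit_to_map_iff A' P' d).mpr fun h => hP' (P'.mul_mem_left _ h)
  obtain ⟨a, ha⟩ := hsu
  refine ⟨_, ⟨Submodule.smul_mem _ _ (toBC_mem_evenOdd A' Q 0 y hye), fun p => ?_, ?_⟩, a, ha, rfl⟩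
  · rw [mul_sub, mul_one, mul_smul_comm, smul_mul_assoc, eq_sub_iff_add_eq, ← smul_add]
    have hall : toBC A' Q y * ι (QA A' Q) p + ι (QA A' Q) p * toBC A' Q y = (a : A') • ι (QA A' Q) p := by
      induction p using TensorProduct.induction_on with
      | zero => simp
      | add p r hp hr => rw [map_add, mul_add, add_mul, smul_add, ← hp, ← hr]; abel
      | tmul c v =>
        rw [ι_tmul, mul_smul_comm, smul_mul_assoc, ← smul_add, ← map_mul, ← map_mul, ← map_add, hrel, map_smul,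
          smul_comm, ha, algebraMap_smul]
    rw [hall, smul_smul, a.inv_mul, one_smul]
  · have e : (1 - 2 * ((↑a⁻¹ : A') • toBC A' Q y) : CliffordAlgebra (QA A' Q)) = (↑a⁻¹ : A') • toBC A' Q w := by
      rw [hw, map_sub, map_mul (toBC A' Q) 2 y, map_ofNat, AlgHom.commutes, smul_sub, mul_smul_comm,
        IsScalarTower.algebraMap_apply R A' (CliffordAlgebra (QA A' Q)), ← ha, Algebra.smul_def (↑a⁻¹ : A')
          (algebraMap A' _ (a : A')), ← map_mul, a.inv_mul, map_one]
    rw [e, Algebra.smul_def]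
    refine ((a⁻¹).isUnit.map _).mul (isUnit_of_sq_scalar _ _ hdu ?_)
    rw [← map_mul, ← hd, AlgHom.commutes, IsScalarTower.algebraMap_apply R A' (CliffordAlgebra (QA A' Q))]

theorem spread_central {y : CliffordAlgebra Q} {s : R} (hrel : ∀ v, y * ι Q v + ι Q v * y = s • ι Q v)
    (x : CliffordAlgebra Q) (hx : x ∈ evenOdd Q 0) : y * x = x * y := by
  induction x, hx using CliffordAlgebra.even_induction with
  | algebraMap r => exact (Algebra.commutes r y).symm
  | add a b _ _ ha hb => rw [mul_add, add_mul, ha, hb]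
  | ι_mul_ι_mul p r x' _ hx' =>
    have h1 : ∀ v, y * ι Q v = s • ι Q v - ι Q v * y := fun v => eq_sub_of_add_eq (hrel v)
    calc y * (ι Q p * ι Q r * x') = y * ι Q p * ι Q r * x' := by simp only [mul_assoc]
      _ = ι Q p * ι Q r * (y * x') := by
        rw [h1, sub_mul, mul_assoc (ι Q p) y, h1, mul_sub, smul_mul_assoc, mul_smul_comm, sub_sub_cancel]
        simp only [mul_assoc]
      _ = ι Q p * ι Q r * x' * y := by rw [hx']; simp only [mul_assoc]

/-- The Dickson condition at a prime. -/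
def TrivAt (g : M ≃ₗ[R] M) (hg : g ∈ QuadGrp.O Q) : Prop :=
  QuadGrp.IsDicksonTrivial (QA A_P Q) _ (baseChange_mem_O A_P Q g hg)

theorem trivial_local (hQ : QuadGrp.IsRegular Q) (m : ℕ) (hM : Module.finrank R M = 2 * m) (g : M ≃ₗ[R] M)
    (hg : g ∈ QuadGrp.O Q) (ht : QuadGrp.IsDicksonTrivial Q g hg) : TrivAt P g hg := by
  obtain ⟨y, s, h, hhP, hye, hrel, hsp⟩ := spread P hQ m hM
  obtain ⟨z, hz, a, ha, rfl⟩ := hsp P hhP
  refine (trivial_iff_fix (regular_QA A_P Q hQ) m (finrank_loc P m hM) _ _ hz).mpr ?_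
  have := ht ⟨y, hye⟩ (Subalgebra.mem_center_iff.mpr fun x => Subtype.ext (spread_central hrel _ x.2).symm)
  rw [map_smul, ← toBC_map A_P Q g hg, this]

theorem det_eq_one_of_trivial (hQ : QuadGrp.IsRegular Q) (m : ℕ) (hM : Module.finrank R M = 2 * m)
    (g : M ≃ₗ[R] M) (hg : g ∈ QuadGrp.O Q) (ht : QuadGrp.IsDicksonTrivial Q g hg) :
    LinearMap.det g.toLinearMap = 1 := by
  rw [← sub_eq_zero]
  refine eq_zero_of_localization _ fun J hJ => ?_
  rcases dichotomy (regular_QA _ Q hQ) m (finrank_loc J m hM) _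
      (baseChange_mem_O (Localization.AtPrime J) Q g hg) with ⟨h1, -⟩ | ⟨-, h2, -⟩
  · rw [map_sub, ← LinearMap.det_baseChange, map_one]
    exact sub_eq_zero.mpr h1
  · exact absurd (trivial_local J hQ m hM g hg ht) h2

theorem trivial_of_local (g : M ≃ₗ[R] M) (hg : g ∈ QuadGrp.O Q)
    (h : ∀ (J : Ideal R) [J.IsMaximal], TrivAt J g hg) : QuadGrp.IsDicksonTrivial Q g hg := by
  intro z hz
  rw [← sub_eq_zero]
  refine eq_zero_of_local _ fun J _ => ?_
  rw [map_sub, toBC_map _ Q g hg, sub_eq_zero]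
  have hzc : ∀ y ∈ evenOdd Q 0, (z : CliffordAlgebra Q) * y = y * z := fun y hy =>
    (congrArg Subtype.val ((Subalgebra.mem_center_iff (R := R)).1 hz ⟨y, hy⟩)).symm
  exact h J ⟨_, toBC_mem_evenOdd _ Q 0 _ z.2⟩ (Subalgebra.mem_center_iff.mpr fun x =>
    Subtype.ext (toBC_commute_even _ Q _ hzc _ x.2).symm)

theorem trivAt_isOpen (hQ : QuadGrp.IsRegular Q) (m : ℕ) (hM : Module.finrank R M = 2 * m) (g : M ≃ₗ[R] M)
    (hg : g ∈ QuadGrp.O Q) (val : Prop) :
    IsOpen {x : PrimeSpectrum R | TrivAt x.asIdeal g hg ↔ val} := by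
  classical
  rw [isOpen_iff_forall_mem_open]
  intro x hx
  obtain ⟨y, s, h, hhP, hye, hrel, hsp⟩ := spread x.asIdeal hQ m hM
  obtain ⟨z, hz, a, ha, rfl⟩ := hsp x.asIdeal hhP
  set e := CliffordAlgebra.map (QuadGrp.isometryOfMem Q g hg) y with he
  have hcase : ∃ f ∉ x.asIdeal, if TrivAt x.asIdeal g hg then f • (e - y) = 0
      else f • (e - (algebraMap R (CliffordAlgebra Q) s - y)) = 0 := by
    by_cases ht : TrivAt x.asIdeal g hg
    · simp only [if_pos ht]
      refine exists_kill _ _ ?_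
      have := (trivial_iff_fix (regular_QA _ Q hQ) m (finrank_loc _ m hM) _ _ hz).mp ht
      rw [map_smul] at this
      have := congrArg (fun t => (a : Localization.AtPrime x.asIdeal) • t) this
      simp only [smul_smul, a.mul_inv, one_smul] at this
      rw [map_sub, he, toBC_map _ Q g hg, this, sub_self]
    · simp only [if_neg ht]
      refine exists_kill _ _ ?_
      rcases dichotomy (regular_QA _ Q hQ) m (finrank_loc _ m hM) _
          (baseChange_mem_O (Localization.AtPrime x.asIdeal) Q g hg) with ⟨-, h2⟩ | ⟨-, -, h3⟩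
      · exact absurd h2 ht
      · have := h3 _ hz
        rw [map_smul] at this
        have := congrArg (fun t => (a : Localization.AtPrime x.asIdeal) • t) this
        simp only [smul_sub, smul_smul, a.mul_inv, one_smul] at this
        rw [map_sub, map_sub, he, toBC_map _ Q g hg, this, AlgHom.commutes,
          IsScalarTower.algebraMap_apply R (Localization.AtPrime x.asIdeal), ← ha, Algebra.algebraMap_eq_smul_one,
          sub_self]
  obtain ⟨f, hfP, hf⟩ := hcase
  refine ⟨PrimeSpectrum.basicOpen (h * f), fun p hp => ?_, (PrimeSpectrum.basicOpen (h * f)).2,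
    fun hh => (x.2.mem_or_mem hh).elim hhP hfP⟩
  have hp' : h * f ∉ p.asIdeal := hp
  show TrivAt p.asIdeal g hg ↔ val
  refine Iff.trans ?_ hx
  obtain ⟨z', hz', a', ha', rfl⟩ := hsp p.asIdeal fun hh => hp' (p.asIdeal.mul_mem_right _ hh)
  have hfu : IsUnit (algebraMap R (Localization.AtPrime p.asIdeal) f) :=
    (IsLocalization.AtPrime.isUnit_to_map_iff _ p.asIdeal f).mpr fun hh => hp' (p.asIdeal.mul_mem_left _ hh)
  have cancel : ∀ t : CliffordAlgebra Q, f • t = 0 → toBC (Localization.AtPrime p.asIdeal) Q t = 0 := fun t ht => by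
    have := congrArg (toBC (Localization.AtPrime p.asIdeal) Q) ht
    rw [map_smul, map_zero, ← algebraMap_smul (Localization.AtPrime p.asIdeal) f, Algebra.smul_def] at this
    exact (hfu.map _).mul_right_eq_zero.mp this
  rw [TrivAt, trivial_iff_fix (regular_QA _ Q hQ) m (finrank_loc _ m hM) _ _ hz', map_smul, ← toBC_map _ Q g hg, ← he]
  by_cases ht : TrivAt x.asIdeal g hg
  · simp only [if_pos ht] at hf
    have h0 := cancel _ hf
    rw [map_sub, sub_eq_zero] at h0
    simp only [h0, iff_true_intro ht]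
  · simp only [if_neg ht] at hf
    have h0 := cancel _ hf
    rw [map_sub, sub_eq_zero] at h0
    rw [h0, map_sub, AlgHom.commutes, smul_sub, IsScalarTower.algebraMap_apply R (Localization.AtPrime p.asIdeal),
      ← ha', Algebra.algebraMap_eq_smul_one, smul_smul, a'.inv_mul, one_smul]
    exact iff_of_false hz'.one_sub_ne ht

theorem center_eq_scalar (hQ : QuadGrp.IsRegular Q) (m : ℕ) (hM : Module.finrank R M = 2 * m)
    (x : CliffordAlgebra Q) (h : ∀ v, ι Q v * x = x * ι Q v) :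
    x ∈ Set.range (algebraMap R (CliffordAlgebra Q)) := by
  obtain ⟨h0, h1⟩ := center_components Q x h
  have : x - P0 Q x = 0 := eq_zero_of_local _ fun J _ => by
    obtain ⟨z, hz⟩ := exists_split_local (regular_QA (Localization.AtPrime J) Q hQ) m (finrank_loc J m hM)
    exact hz.odd_central _ (toBC_mem_evenOdd _ Q 1 _ (sub_P0_mem Q x)) (toBC_commute _ Q _ h1)
  rw [sub_eq_zero.mp this]
  exact even_central hQ _ (P0_mem Q x) h0

theorem mem_GPin'_of_conj (g : M ≃ₗ[R] M) (u : (CliffordAlgebra Q)ˣ)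
    (h : ∀ v, (u : CliffordAlgebra Q) * ι Q v * ↑u⁻¹ = ι Q (g v)) : u ∈ QuadGrp.GPin' Q := by
  rw [QuadGrp.mem_GPin']
  refine le_antisymm ?_ ?_
  · rintro _ ⟨_, ⟨v, rfl⟩, rfl⟩
    exact ⟨g v, (h v).symm⟩
  · rintro _ ⟨v, rfl⟩
    exact ⟨_, ⟨g.symm v, rfl⟩, by show (u : CliffordAlgebra Q) * ι Q _ * ↑u⁻¹ = _; rw [h, g.apply_symm_apply]⟩

end Groth.Agent.Lib.QuadGrp99.Cliff
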