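import Groth.Agent.Lib.QuadGrp99.Cliff.Contract
import Mathlib.LinearAlgebra.Dual.Lemmas
import Mathlib.LinearAlgebra.Determinant
import Mathlib.LinearAlgebra.Transvection.Basic

/-!
# Splitting elements and lifts of isometries
-/

open CliffordAlgebra

universe u v

namespace Groth.Agent.Lib.QuadGrp99.Cliff

variable {A : Type u} [CommRing A] {V : Type v} [AddCommGroup V] [Module A V] (q : QuadraticForm A V)

/-- A splitting element: even, `z v = v (1 - z)`, with `1 - 2 z` invertible. -/
structure IsSplit (z : CliffordAlgebra q) : Prop where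
  even : z ∈ evenOdd q 0
  swap : ∀ v, z * ι q v = ι q v * (1 - z)
  unit : IsUnit (1 - 2 * z)

variable {q} {z : CliffordAlgebra q}

theorem IsSplit.swap' (h : IsSplit q z) (v : V) : ι q v * z = (1 - z) * ι q v := by
  rw [sub_mul, one_mul, h.swap, mul_sub, mul_one, sub_sub_cancel]

theorem IsSplit.commute_even (h : IsSplit q z) (x : CliffordAlgebra q) (hx : x ∈ evenOdd q 0) :
    z * x = x * z := by
  induction x, hx using CliffordAlgebra.even_induction with
  | algebraMap r => exact (Algebra.commutes r z).symm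
  | add a b _ _ ha hb => rw [mul_add, add_mul, ha, hb]
  | ι_mul_ι_mul p r y _ hy =>
    calc z * (ι q p * ι q r * y) = ι q p * (1 - z) * (ι q r * y) := by rw [← h.swap]; noncomm_ring
      _ = ι q p * ((1 - z) * ι q r) * y := by noncomm_ring
      _ = ι q p * ι q r * (z * y) := by rw [← h.swap']; noncomm_ring
      _ = ι q p * ι q r * y * z := by rw [hy]; noncomm_ring

theorem IsSplit.swap_odd (h : IsSplit q z) (x : CliffordAlgebra q) (hx : x ∈ evenOdd q 1) :
    z * x = x * (1 - z) := by
  induction x, hx using CliffordAlgebra.odd_induction with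
  | ι v => exact h.swap v
  | add a b _ _ ha hb => rw [mul_add, add_mul, ha, hb]
  | ι_mul_ι_mul p r y _ hy =>
    rw [← mul_assoc, h.commute_even _ (ι_mul_ι_mem_evenOdd_zero q p r), mul_assoc, hy, ← mul_assoc]

theorem IsSplit.odd_central (h : IsSplit q z) (x : CliffordAlgebra q) (hx : x ∈ evenOdd q 1)
    (hc : ∀ v, ι q v * x = x * ι q v) : x = 0 := by
  have hce : ∀ y ∈ evenOdd q 0, y * x = x * y := by
    intro y hy
    induction y, hy using CliffordAlgebra.even_induction with
    | algebraMap r => exact Algebra.commutes r x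
    | add a b _ _ ha hb => rw [mul_add, add_mul, ha, hb]
    | ι_mul_ι_mul p r y _ hy => rw [mul_assoc _ y x, hy, ← mul_assoc, mul_assoc _ (ι q r) x, hc, ← mul_assoc,
        hc, mul_assoc x, mul_assoc x]
  have h1 : x * z = x * (1 - z) := by rw [← hce z h.even, h.swap_odd x hx]
  have h2 : x * (1 - 2 * z) = 0 := by
    calc x * (1 - 2 * z) = x * (1 - z) - x * z := by noncomm_ring
      _ = 0 := by rw [h1, sub_self]
  exact (h.unit.mul_left_eq_zero).mp h2

theorem IsSplit.one_sub_ne [Nontrivial A] [Module.Free A V] [Module.Finite A V] (h : IsSplit q z) :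
    1 - z ≠ z := by
  intro e
  have h0 : (1 - 2 * z : CliffordAlgebra q) = 0 := by
    calc (1 - 2 * z : CliffordAlgebra q) = (1 - z) - z := by noncomm_ring
      _ = 0 := by rw [e, sub_self]
  haveI : Nontrivial (CliffordAlgebra q) := algebraMap_injective.nontrivial
  exact not_isUnit_zero (h0 ▸ h.unit)

/-- The reflection in a vector of invertible length. -/
noncomputable def reflMap (a : V) (c : Aˣ) : V →ₗ[A] V :=
  LinearMap.transvection ((-(↑c⁻¹ : A)) • q.polarBilin a) a

theorem reflMap_apply (a : V) (c : Aˣ) (v : V) :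
    reflMap (q := q) a c v = v - ((↑c⁻¹ : A) * QuadraticMap.polar q a v) • a := by
  simp [reflMap, LinearMap.transvection.apply, sub_eq_add_neg, neg_smul]

theorem reflMap_reflMap (a : V) (c : Aˣ) (hc : q a = c) :
    reflMap (q := q) a c ∘ₗ reflMap (q := q) a c = LinearMap.id := by
  ext v
  simp only [LinearMap.comp_apply, LinearMap.id_apply, reflMap_apply, QuadraticMap.polar_sub_right,
    QuadraticMap.polar_smul_right, QuadraticMap.polar_self, smul_eq_mul, hc]
  rw [sub_sub, ← add_smul, sub_eq_self]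
  have : (↑c⁻¹ : A) * ↑c = 1 := c.inv_mul
  convert zero_smul A a using 2
  rw [nsmul_eq_mul, Nat.cast_ofNat]
  linear_combination (-2 * (↑c⁻¹ : A) * QuadraticMap.polar q a v) * this

/-- The reflection as an automorphism. -/
noncomputable def refl (a : V) (c : Aˣ) (hc : q a = c) : V ≃ₗ[A] V :=
  LinearEquiv.ofLinearMap (reflMap (q := q) a c) (reflMap (q := q) a c) (reflMap_reflMap a c hc)
    (reflMap_reflMap a c hc)

theorem refl_apply (a : V) (c : Aˣ) (hc : q a = c) (v : V) :
    refl a c hc v = v - ((↑c⁻¹ : A) * QuadraticMap.polar q a v) • a := reflMap_apply a c v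

theorem refl_mem (a : V) (c : Aˣ) (hc : q a = c) : refl a c hc ∈ QuadGrp.O q := by
  intro v
  rw [refl_apply, sub_eq_add_neg, QuadraticMap.map_add q, QuadraticMap.map_neg, QuadraticMap.map_smul,
    QuadraticMap.polar_neg_right, QuadraticMap.polar_smul_right, QuadraticMap.polar_comm q v a, hc]
  simp only [smul_eq_mul]
  have : (↑c⁻¹ : A) * ↑c = 1 := c.inv_mul
  linear_combination ((↑c⁻¹ : A) * QuadraticMap.polar q a v ^ 2) * this

theorem ι_mul_inv (a : V) (c : Aˣ) (hc : q a = c) :
    ι q a * ((↑c⁻¹ : A) • ι q a) = 1 ∧ ((↑c⁻¹ : A) • ι q a) * ι q a = 1 := by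
  constructor
  · rw [mul_smul_comm, ι_sq_scalar, hc, Algebra.smul_def, ← map_mul, c.inv_mul, map_one]
  · rw [smul_mul_assoc, ι_sq_scalar, hc, Algebra.smul_def, ← map_mul, c.inv_mul, map_one]

/-- Products of `p` reflections. -/
inductive RProd (q : QuadraticForm A V) : (V ≃ₗ[A] V) → ℕ → Prop
  | one : RProd q (LinearEquiv.refl A V) 0
  | refl (a : V) (c : Aˣ) (hc : q a = c) : RProd q (Groth.Agent.Lib.QuadGrp99.Cliff.refl a c hc) 1
  | mul {g h : V ≃ₗ[A] V} {p r : ℕ} : RProd q g p → RProd q h r → RProd q (h.trans g) (p + r)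

variable (q)

/-- `g` is induced by a product of `p` vectors. -/
structure Lifted (g : V ≃ₗ[A] V) (p : ℕ) (u : (CliffordAlgebra q)ˣ) : Prop where
  mem : (u : CliffordAlgebra q) ∈ evenOdd q (p : ZMod 2)
  conj : ∀ v, (u : CliffordAlgebra q) * ι q v = (-1 : A) ^ p • (ι q (g v) * u)
  det : LinearMap.det g.toLinearMap = (-1) ^ p
  prod : RProd q g p

variable {q}

theorem lifted_one : Lifted q (LinearEquiv.refl A V) 0 1 where
  mem := by simpa using SetLike.one_mem_graded (evenOdd q)
  conj v := by simp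
  det := by simp
  prod := .one

theorem Lifted.mul {g h : V ≃ₗ[A] V} {p r : ℕ} {u w : (CliffordAlgebra q)ˣ} (hu : Lifted q g p u)
    (hw : Lifted q h r w) : Lifted q (h.trans g) (p + r) (u * w) where
  mem := by rw [Units.val_mul, Nat.cast_add]; exact SetLike.mul_mem_graded hu.mem hw.mem
  conj v := by
    rw [Units.val_mul, mul_assoc, hw.conj, mul_smul_comm, ← mul_assoc, hu.conj, smul_mul_assoc, smul_smul,
      mul_assoc, pow_add, mul_comm ((-1 : A) ^ p), LinearEquiv.trans_apply]
  det := by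
    rw [show ((h.trans g).toLinearMap) = g.toLinearMap ∘ₗ h.toLinearMap from rfl, LinearMap.det_comp, hu.det,
      hw.det, pow_add]
  prod := hu.prod.mul hw.prod

theorem Lifted.map_even {g : V ≃ₗ[A] V} {p : ℕ} {u : (CliffordAlgebra q)ˣ} (hu : Lifted q g p u)
    (hg : g ∈ QuadGrp.O q) (x : CliffordAlgebra q) (hx : x ∈ evenOdd q 0) :
    CliffordAlgebra.map (QuadGrp.isometryOfMem q g hg) x * u = u * x := by
  induction x, hx using CliffordAlgebra.even_induction with
  | algebraMap r => rw [AlgHom.commutes, Algebra.commutes]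
  | add a b _ _ ha hb => rw [map_add, add_mul, mul_add, ha, hb]
  | ι_mul_ι_mul a b y _ hy =>
    rw [map_mul, map_mul, map_apply_ι, map_apply_ι, QuadGrp.isometryOfMem_apply, QuadGrp.isometryOfMem_apply,
      mul_assoc, hy, ← mul_assoc _ (ι q a * ι q b), ← mul_assoc _ (ι q a), hu.conj, smul_mul_assoc, mul_assoc _ (u : CliffordAlgebra q) (ι q b),
      hu.conj, mul_smul_comm, smul_smul, ← pow_add, Even.neg_one_pow ⟨p, rfl⟩, one_smul]
    simp only [mul_assoc]

theorem Lifted.map_split_even {g : V ≃ₗ[A] V} {p : ℕ} {u : (CliffordAlgebra q)ˣ} (hu : Lifted q g p u)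
    (hp : Even p) (hg : g ∈ QuadGrp.O q) (x : CliffordAlgebra q) (hx : x ∈ evenOdd q 0)
    (hc : ∀ y ∈ evenOdd q 0, x * y = y * x) :
    CliffordAlgebra.map (QuadGrp.isometryOfMem q g hg) x = x := by
  have h0 : (p : ZMod 2) = 0 := (ZMod.natCast_eq_zero_iff_even).mpr hp
  have hu' : (u : CliffordAlgebra q) ∈ evenOdd q 0 := h0 ▸ hu.mem
  exact u.isUnit.mul_left_inj.mp ((hu.map_even hg x hx).trans (hc _ hu').symm)

theorem Lifted.map_split_odd {g : V ≃ₗ[A] V} {p : ℕ} {u : (CliffordAlgebra q)ˣ} (hu : Lifted q g p u)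
    (hp : Odd p) (hg : g ∈ QuadGrp.O q) (hz : IsSplit q z) :
    CliffordAlgebra.map (QuadGrp.isometryOfMem q g hg) z = 1 - z := by
  have h1 : (p : ZMod 2) = 1 := (ZMod.natCast_eq_one_iff_odd).mpr hp
  have hu' : (u : CliffordAlgebra q) ∈ evenOdd q 1 := h1 ▸ hu.mem
  refine u.isUnit.mul_left_inj.mp ?_
  rw [hu.map_even hg z hz.even, sub_mul, one_mul, hz.swap_odd _ hu', mul_sub, mul_one, sub_sub_cancel]

theorem lifted_refl [Module.Free A V] [Module.Finite A V] (a : V) (c : Aˣ) (hc : q a = c) :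
    Lifted q (refl a c hc) 1 ⟨ι q a, (↑c⁻¹ : A) • ι q a, (ι_mul_inv a c hc).1, (ι_mul_inv a c hc).2⟩ where
  mem := by rw [Nat.cast_one]; exact ι_mem_evenOdd_one q a
  conj v := by
    show ι q a * ι q v = (-1 : A) ^ 1 • (ι q (refl a c hc v) * ι q a)
    rw [refl_apply, map_sub, map_smul, sub_mul, smul_mul_assoc, ι_sq_scalar, pow_one, neg_one_smul, neg_sub,
      hc, Algebra.smul_def, ← map_mul (algebraMap A (CliffordAlgebra q)), mul_comm (↑c⁻¹ : A), mul_assoc,
      c.inv_mul, mul_one, eq_sub_iff_add_eq]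
    exact ι_mul_ι_add_swap a v
  det := by
    show LinearMap.det (reflMap (q := q) a c) = _
    rw [reflMap, LinearMap.transvection.det, LinearMap.smul_apply, QuadraticMap.polarBilin_apply_apply,
      QuadraticMap.polar_self, hc, smul_eq_mul, nsmul_eq_mul, Nat.cast_ofNat, pow_one]
    linear_combination (-2) * c.inv_mul
  prod := .refl a c hc

end Groth.Agent.Lib.QuadGrp99.Cliff
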